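import Groth.Agent.L12.KRes.Push
import Groth.Agent.L22.FLI.Chart
import Groth.Agent.L14.QRegRegular
import Groth.Agent.L18.KRRAmple
import Groth.Agent.L12.FinCov.Basis

/-!
# Codimension of a regular closed immersion from the rank of its conormal module
-/

set_option autoImplicit false
set_option linter.style.haveILetI false
set_option linter.unusedSectionVars false
set_option backward.isDefEq.respectTransparency false
set_option backward.isDefEq.respectTransparency.types false

universe u

open CategoryTheory CategoryTheory.Limits AlgebraicGeometry TopologicalSpace Opposite RingTheory.Sequence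

noncomputable section

namespace Groth.L12.RR

variable {X Y : Scheme.{u}} (f : X ⟶ Y)

/-- The chart of a regular sequence generating the ideal on an affine open. -/
theorem exists_chart_of_seq [IsClosedImmersion f] (U : Y.affineOpens) {rs : List Γ(Y, U.1)}
    (hw : IsWeaklyRegular Γ(Y, U.1) rs) (hker : f.ker.ideal U = Ideal.ofList rs) :
    ∃ c : Groth.L22.FLI.Chart f rs.length, c.U = U := by
  let g : ℕ → Γ(Y, U.1) := fun i => rs.getD i 0
  have hI : ∀ p, p ≤ rs.length → Groth.L22.FLI.Ip g p = Ideal.ofList (rs.take p) := by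
    intro p hp
    refine congrArg Ideal.span (Set.ext fun a => ?_)
    simp only [Set.mem_image, Set.mem_Iio, Set.mem_setOf_eq, List.mem_iff_getElem, List.length_take, g]
    constructor
    · rintro ⟨i, hi, rfl⟩
      exact ⟨i, by omega, by rw [List.getElem_take, List.getD_eq_getElem _ _ (by omega)]⟩
    · rintro ⟨i, hi, rfl⟩
      exact ⟨i, by omega, by rw [List.getElem_take, List.getD_eq_getElem _ _ (by omega)]⟩
  refine ⟨⟨U, g, fun p hp a ha => ?_, ?_⟩, rfl⟩
  · have h := hw.regular_mod_prev p hp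
    rw [hI p hp.le] at ha ⊢
    rw [show g p = rs[p] from List.getD_eq_getElem _ _ hp] at ha
    have e : (Ideal.ofList (rs.take p) • ⊤ : Submodule Γ(Y, U.1) Γ(Y, U.1)) = Ideal.ofList (rs.take p) := by
      rw [smul_eq_mul, Ideal.mul_top]
    have h2 := h (show rs[p] • (Submodule.Quotient.mk a : Γ(Y, U.1) ⧸ _) = rs[p] • 0 by
      rw [smul_zero, ← Submodule.Quotient.mk_smul, Submodule.Quotient.mk_eq_zero, e]
      exact ha)
    rwa [Submodule.Quotient.mk_eq_zero, e] at h2
  · rw [hI _ le_rfl, List.take_length, ← hker, Scheme.Hom.ker_apply]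

/-- With conormal rank `d`, the ideal in each local ring is generated by a regular sequence of length `d`. -/
theorem exists_regular_stalk_rank [IsLocallyNoetherian Y] (hf : Mor2.IsRegularClosedImmersion f) {d : ℕ}
    (hd : FlatMod.IsFinLocFreeOfRank d (Omega.conormal f)) (z : X) :
    ∃ rs : List (Y.presheaf.stalk (f z)), rs.length = d ∧ IsRegular (Y.presheaf.stalk (f z)) rs ∧
      RingHom.ker (f.stalkMap z).hom = Ideal.ofList rs := by
  haveI := hf.1
  obtain ⟨U, hU, hz, rs, hrs, hker⟩ := hf.2 z
  obtain ⟨c, hc⟩ := exists_chart_of_seq f ⟨U, hU⟩ hrs.toIsWeaklyRegular hker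
  have hzc : z ∈ f ⁻¹ᵁ c.U.1 := by rw [hc]; exact hz
  obtain ⟨V, hzV, ⟨e⟩⟩ := hd z
  obtain ⟨e'⟩ := Groth.L12.FinCov.nonempty_restrict_iso_free (b := c.cl) c.isBasisS_cl
  obtain rfl := Groth.L18.KRRAmple.rank_unique hzV hzc e e'
  letI := Y.presheaf.algebra_section_stalk ⟨f z, hz⟩
  haveI := hU.isLocalization_stalk ⟨f z, hz⟩
  have hk : RingHom.ker (f.stalkMap z).hom =
      (Ideal.ofList rs).map (algebraMap Γ(Y, U) (Y.presheaf.stalk (f z))) := by
    rw [Groth.L20.Infinitesimal.ker_stalkMap, Groth.L20.SeeNormal.sI_eq f.ker ⟨U, hU⟩ hz, hker]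
    rfl
  have hk' : RingHom.ker (f.stalkMap z).hom =
      Ideal.ofList (rs.map (algebraMap Γ(Y, U) (Y.presheaf.stalk (f z)))) := by
    rw [hk, Ideal.map_ofList]
  refine ⟨_, List.length_map _, hrs.1.isRegular_of_isLocalization_of_mem (Y.presheaf.stalk (f z))
    (hU.primeIdealOf ⟨f z, hz⟩).asIdeal (fun r hr => ?_), hk'⟩
  rw [← IsLocalization.AtPrime.to_map_mem_maximal_iff (Y.presheaf.stalk (f z)) (hU.primeIdealOf ⟨f z, hz⟩).asIdeal]
  refine IsLocalRing.le_maximalIdeal (RingHom.ker_ne_top (f.stalkMap z).hom) ?_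
  rw [hk]
  exact Ideal.mem_map_of_mem _ (Ideal.subset_span hr)

/-- `d` generators of an ideal generated by a regular sequence of length `d` form a regular sequence. -/
theorem isWeaklyRegular_of_span_eq {R : Type u} [CommRing R] [IsNoetherianRing R] [IsLocalRing R] {rs : List R}
    (hrs : IsRegular R rs) {d : ℕ} (hd : rs.length = d) (g : Fin d → R)
    (hg : Ideal.span (Set.range g) = Ideal.ofList rs) : IsWeaklyRegular R (List.ofFn g) := by
  subst hd
  have h : Ideal.span (Set.range rs.get) = Ideal.ofList rs := by rw [Set.range_list_get]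
  have hq : CAlgX.IsQuasiRegular g := Groth.L14.QRR.isQuasiRegular_of_span_eq rs.get g
    (Groth.L07.QReg.isQuasiRegular_of_isWeaklyRegular (by rw [List.ofFn_get]; exact hrs.toIsWeaklyRegular))
    (hg.trans h.symm)
  refine Groth.L14.QRR.isWeaklyRegular_of_isQuasiRegular g (fun i => ?_) hq
  rw [IsLocalRing.jacobson_eq_maximalIdeal _ bot_ne_top]
  refine IsLocalRing.le_maximalIdeal (fun htop => hrs.top_ne_smul ?_) (show g i ∈ Ideal.ofList rs from
    hg ▸ Ideal.subset_span ⟨i, rfl⟩)
  rw [htop]
  simp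

end Groth.L12.RR
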