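import Groth.Agent.L12.RR.Push

/-!
# Adams Riemann–Roch from a deformation to an elementary imbedding
-/

set_option autoImplicit false
set_option maxHeartbeats 800000
set_option linter.style.haveILetI false
set_option linter.unusedSectionVars false
set_option backward.isDefEq.respectTransparency false
set_option backward.isDefEq.respectTransparency.types false

universe u

open CategoryTheory CategoryTheory.Limits AlgebraicGeometry TopologicalSpace

noncomputable section

namespace Groth.L12.RR

open Groth.L12.Kvb (KR)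
open Groth.L12.KBunQ (kc)

/-- Adams Riemann–Roch for an immersion given by the zero scheme of a cosection, with a retraction. -/
theorem adams_elementary {X P : Scheme.{u}} [IsNoetherian X] [IsNoetherian P] (hPe : _root_.KRR.HasEnoughLocFree P)
    (i : X ⟶ P) (hi : Mor2.IsRegularClosedImmersion i) (π : P ⟶ X) (hπ : i ≫ π = 𝟙 X) {d : ℕ}
    (hci : FlatMod.IsFinLocFreeOfRank d (Omega.conormal i)) {E : P.Modules} (hE : FlatMod.IsFinLocFreeOfRank d E)
    (t : E ⟶ Coh.structureModule P)
    (ht : ∀ U : P.affineOpens, i.ker.ideal U = Ideal.span {a : Γ(P, U.1) | ∃ s : Γ(E, U.1), (t.app U.1) s = a})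
    {j : ℕ} (hj : j ≠ 0) (x : KR X) :
    psi j (pushK i hi hPe x) = pushK i hi hPe (theta j d (kc X ((Scheme.Modules.pullback i).obj E)) * psi j x) := by
  have h1 := pushK_one_zeroScheme i hi hPe hci hE t ht
  have hx : x = pull i (pull π x) := (pull_section hπ x).symm
  have e : theta j d (kc X ((Scheme.Modules.pullback i).obj E)) = pull i (theta j d (kc P E)) := by
    rw [pull_theta, pull_kc i (Groth.L18.KRRAmple.isFinLocFree_of_rank hE)]
  rw [e, hx, ← pull_psi, ← map_mul, pushK_pull, pushK_pull, psi_mul hj, h1, psi_lamA hj hE, mul_assoc]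

/-- The data of a deformation of `f` to an elementary imbedding. -/
structure Deformation {X Y : Scheme.{u}} (f : X ⟶ Y) (d : ℕ) where
  W : Scheme.{u}
  P : Scheme.{u}
  M : Scheme.{u}
  noethW : IsNoetherian W
  noethP : IsNoetherian P
  noethM : IsNoetherian M
  enoughP : _root_.KRR.HasEnoughLocFree P
  enoughM : _root_.KRR.HasEnoughLocFree M
  pW : W ⟶ X
  s0 : X ⟶ W
  st : X ⟶ W
  s0_pW : s0 ≫ pW = 𝟙 X
  st_pW : st ≫ pW = 𝟙 X
  F : W ⟶ M
  regF : Mor2.IsRegularClosedImmersion F
  rankF : FlatMod.IsFinLocFreeOfRank d (Omega.conormal F)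
  it : Y ⟶ M
  closed_it : IsClosedImmersion it
  cartier_it : BlowUp.IsEffCartierIdeal it.ker
  sq_it : IsPullback f st it F
  conormal_it : kc X ((Scheme.Modules.pullback st).obj (Omega.conormal F)) = kc X (Omega.conormal f)
  f0 : X ⟶ P
  regf0 : Mor2.IsRegularClosedImmersion f0
  rankf0 : FlatMod.IsFinLocFreeOfRank d (Omega.conormal f0)
  π : P ⟶ X
  f0_π : f0 ≫ π = 𝟙 X
  E : P.Modules
  rankE : FlatMod.IsFinLocFreeOfRank d E
  t : E ⟶ Coh.structureModule P
  ideal_t : ∀ U : P.affineOpens, f0.ker.ideal U = Ideal.span {a : Γ(P, U.1) | ∃ s : Γ(E, U.1), (t.app U.1) s = a}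
  iP : P ⟶ M
  closed_iP : IsClosedImmersion iP
  cartier_iP : BlowUp.IsEffCartierIdeal iP.ker
  sq_iP : IsPullback f0 s0 iP F
  conormal_iP : kc X ((Scheme.Modules.pullback s0).obj (Omega.conormal F)) = kc X ((Scheme.Modules.pullback f0).obj E)
  rest : M.IdealSheafData
  cartier_rest : BlowUp.IsEffCartierIdeal rest
  disjoint_rest : ∀ z : rest.subscheme, rest.subschemeι z ∉ Set.range F
  linEquiv : kc M (ClSub.idealMod it.ker) = kc M (ClSub.idealMod iP.ker) * kc M (ClSub.idealMod rest)
  retr : KR M →+ KR Y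

variable {X Y : Scheme.{u}} {f : X ⟶ Y} {d : ℕ}

/-- Adams Riemann–Roch in the ring of bundles, given a deformation. -/
theorem adamsRR_of_deformation [IsNoetherian X] [IsNoetherian Y] (hYe : _root_.KRR.HasEnoughLocFree Y)
    (hf : Mor2.IsRegularClosedImmersion f) (hcf : FlatMod.IsFinLocFreeOfRank d (Omega.conormal f))
    (D : Deformation f d)
    (hretr : ∀ y, haveI := D.noethM; haveI := D.closed_it;
      D.retr (pushK D.it (isRegular_of_effCartier D.it D.cartier_it) D.enoughM y) = y)
    {j : ℕ} (hj : j ≠ 0) (x : KR X) :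
    psi j (pushK f hf hYe x) = pushK f hf hYe (theta j d (kc X (Omega.conormal f)) * psi j x) := by
  haveI := D.noethW
  haveI := D.noethP
  haveI := D.noethM
  haveI := D.closed_it
  haveI := D.closed_iP
  let gt := pushK D.it (isRegular_of_effCartier D.it D.cartier_it) D.enoughM
  let gP := pushK D.iP (isRegular_of_effCartier D.iP D.cartier_iP) D.enoughM
  haveI : IsLocallyNoetherian D.rest.subscheme := LocallyOfFiniteType.isLocallyNoetherian D.rest.subschemeι
  haveI : CompactSpace D.rest.subscheme := QuasiCompact.compactSpace_of_compactSpace D.rest.subschemeι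
  haveI : IsNoetherian D.rest.subscheme := {}
  have hR : BlowUp.IsEffCartierIdeal D.rest.subschemeι.ker := by rw [Scheme.IdealSheafData.ker_subschemeι]; exact D.cartier_rest
  let gR := pushK D.rest.subschemeι (isRegular_of_effCartier _ hR) D.enoughM
  let C := kc D.W (Omega.conormal D.F)
  let m := pushK D.F D.regF D.enoughM (pull D.pW x)
  let z := theta j d C * psi j (pull D.pW x)
  let Δ := psi j m - pushK D.F D.regF D.enoughM z
  let δ := psi j (pushK f hf hYe x) - pushK f hf hYe (theta j d (kc X (Omega.conormal f)) * psi j x)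
  have hC := Groth.L18.KRRAmple.isFinLocFree_of_rank D.rankF
  have hsec : ∀ (s : X ⟶ D.W), s ≫ D.pW = 𝟙 X → pull s z =
      theta j d (kc X ((Scheme.Modules.pullback s).obj (Omega.conormal D.F))) * psi j x := fun s hs => by
    rw [map_mul, pull_theta, pull_psi, pull_section hs, pull_kc s hC]
  have ht : pull D.it Δ = δ := by
    rw [map_sub, pull_psi, pull_pushK D.sq_it D.regF hf D.rankF hcf D.enoughM hYe,
      pull_pushK D.sq_it D.regF hf D.rankF hcf D.enoughM hYe, pull_section D.st_pW, hsec D.st D.st_pW,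
      D.conormal_it]
  have hP : pull D.iP Δ = 0 := by
    rw [map_sub, pull_psi, pull_pushK D.sq_iP D.regF D.regf0 D.rankF D.rankf0 D.enoughM D.enoughP,
      pull_pushK D.sq_iP D.regF D.regf0 D.rankF D.rankf0 D.enoughM D.enoughP, pull_section D.s0_pW,
      hsec D.s0 D.s0_pW, D.conormal_iP,
      adams_elementary D.enoughP D.f0 D.regf0 D.π D.f0_π D.rankf0 D.rankE D.t D.ideal_t hj, sub_self]
  have hRest : pull D.rest.subschemeι Δ = 0 := by
    rw [map_sub, pull_psi, pull_pushK_eq_zero D.regF D.enoughM _ D.disjoint_rest,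
      pull_pushK_eq_zero D.regF D.enoughM _ D.disjoint_rest, psi_zero, sub_zero]
  have e1 : gt δ = (1 - kc D.M (ClSub.idealMod D.it.ker)) * Δ := by
    rw [← ht]
    exact (pushK_pull _ _ _ Δ).trans (congrArg (· * Δ) (pushK_one_divisor _ _ _ D.cartier_it))
  have e2 : (1 - kc D.M (ClSub.idealMod D.iP.ker)) * Δ = 0 := by
    refine Eq.trans ?_ (gP.map_zero)
    rw [← hP]
    exact ((pushK_pull _ _ _ Δ).trans (congrArg (· * Δ) (pushK_one_divisor _ _ _ D.cartier_iP))).symm
  have e3 : (1 - kc D.M (ClSub.idealMod D.rest)) * Δ = 0 := by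
    refine Eq.trans ?_ (gR.map_zero)
    rw [← hRest]
    refine ((pushK_pull _ _ _ Δ).trans (congrArg (· * Δ) ?_)).symm
    rw [pushK_one_divisor _ _ _ hR, Scheme.IdealSheafData.ker_subschemeι]
  have e4 : gt δ = 0 := by
    rw [e1, D.linEquiv]
    linear_combination e2 + kc D.M (ClSub.idealMod D.iP.ker) * e3
  have := congrArg D.retr e4
  rw [hretr, map_zero] at this
  exact sub_eq_zero.1 this

end Groth.L12.RR
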