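import Groth.Agent.L12.RR.Shift
import Mathlib.RingTheory.Finiteness.Ideal
import Mathlib.RingTheory.Ideal.Maps

/-!
# Push forwards shift the rational gamma filtration
-/

set_option autoImplicit false
set_option maxHeartbeats 800000
set_option linter.style.haveILetI false
set_option linter.unusedSectionVars false
set_option backward.isDefEq.respectTransparency false
set_option backward.isDefEq.respectTransparency.types false

universe u

open CategoryTheory CategoryTheory.Limits AlgebraicGeometry TopologicalSpace LambdaRing TensorProduct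

noncomputable section

namespace Groth.L12.RR

open Groth.L12.Kvb (KR posStructure)
open Groth.L12.KBunQ (kc)
open Eigen (W Wt mem_Wt)

variable {X Y : Scheme.{u}} [CompactSpace X] [CompactSpace Y] [ConnectedSpace ↥X] [ConnectedSpace ↥Y]
  {L : X.Modules} (hL : CohB1.IsAmple L)

include hL in
/-- The cannibalistic class is `2^d` up to positive weight. -/
theorem incl_theta_sub_mem {C : X.Modules} {d : ℕ} (hC : FlatMod.IsFinLocFreeOfRank d C) :
    incl (theta 2 d (kc X C)) - (2 : KQ X) ^ d ∈ W (psiQ (X := X)) 2 1 := by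
  obtain ⟨X', _, g, s, hg, hs, hcard, hsum⟩ := exists_split_sum d X C hC
  rw [show incl (theta 2 d (kc X C)) - (2 : KQ X) ^ d = incl (theta 2 d (kc X C) - (2 : KR X) ^ d) by
    rw [map_sub, map_pow, map_ofNat]]
  refine mem_W_of_split hg ?_
  rw [map_sub, map_pow, map_ofNat, map_theta g hg.lam, hsum, ← hcard,
    theta_sum_thin (fun a ha => thin_of_line (hs a ha)), map_sub, map_pow, map_ofNat, map_multiset_prod,
    Multiset.map_map]
  have h1 : ∀ v ∈ s, incl (v - 1) ∈ W (psiQ (X := X')) 2 1 := fun v hv => by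
    rw [map_sub, map_one]
    refine Eigen.sub_one_mem_W le_rfl ?_ ?_
    · rw [← map_one (incl (X := X')), ← map_sub]
      exact (isNilpotent_line_sub_one hL hg hC hs hcard hsum hv).map _
    · rw [psiQ_incl, psi_of_thin (thin_of_line (hs v hv)) two_ne_zero, map_pow]
  clear hs hcard hsum
  induction s using Multiset.induction with
  | empty => simp
  | cons v t ih =>
    rw [Multiset.map_cons, Multiset.prod_cons, Multiset.card_cons, pow_succ', Function.comp_apply]
    have e : incl (∑ k ∈ Finset.range 2, v ^ k) = 2 + incl (v - 1) := by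
      simp only [Finset.sum_range_succ, Finset.range_zero, Finset.sum_empty, zero_add, pow_zero, pow_one, map_add,
        map_one, map_sub]
      ring
    rw [e]
    have hv := h1 v (Multiset.mem_cons_self v t)
    have ht := ih fun a ha => h1 a (Multiset.mem_cons_of_mem ha)
    set P := (Multiset.map (incl ∘ fun u => ∑ k ∈ Finset.range 2, u ^ k) t).prod with hP
    rw [show (2 + incl (v - 1)) * P - 2 * (2 : KQ X') ^ t.card =
      2 * (P - (2 : KQ X') ^ t.card) + incl (v - 1) * (P - (2 : KQ X') ^ t.card) +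
        (2 : KQ X') ^ t.card * incl (v - 1) by ring]
    have hc : ∀ c : ℕ, ((c : ℕ) : KQ X') ∈ W (psiQ (X := X')) 2 0 := Eigen.natCast_mem_W
    refine add_mem (add_mem ?_ (Eigen.W_antitone (by omega) (Eigen.mul_mem_W hv ht))) ?_
    · exact_mod_cast Eigen.mul_mem_W (hc 2) ht
    · have := Eigen.mul_mem_W (hc (2 ^ t.card)) hv
      push_cast at this
      simpa using this

variable (h : KR X →+ KR Y) {θ : KR X} {d : ℕ} (hh : ∀ x, psi 2 (h x) = h (θ * psi 2 x))
  (hθ : incl θ - (2 : KQ X) ^ d ∈ W (psiQ (X := X)) 2 1)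

include hh in
theorem psiQ_mapQ (z : KQ X) : psiQ (mapQ h z) = mapQ h (incl θ * psiQ z) := by
  induction z using TensorProduct.induction_on with
  | zero => simp
  | tmul q x =>
    show q ⊗ₜ[ℤ] psi 2 (h x) = mapQ h ((1 : ℚ) ⊗ₜ[ℤ] θ * q ⊗ₜ[ℤ] psi 2 x)
    rw [Algebra.TensorProduct.tmul_mul_tmul, one_mul, hh]
    rfl
  | add a b ha hb => simp only [map_add, mul_add, ha, hb]

include hL hh hθ in
/-- The push forward shifts weights by `d`. -/
theorem inQF_mapQ {k : ℕ} {z : KQ X} (hz : z ∈ Wt (psiQ (X := X)) 2 k) : InQF (k + d) (mapQ h z) := by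
  classical
  obtain ⟨S, hS, hSsum⟩ : ∃ S : Multiset (KQ X), (∀ w ∈ S, ∃ l, 1 ≤ l ∧ w ∈ Wt (psiQ (X := X)) 2 l) ∧
      S.sum = incl θ - (2 : KQ X) ^ d := by
    refine Eigen.W_induction (p := fun y => ∃ S : Multiset (KQ X),
      (∀ w ∈ S, ∃ l, 1 ≤ l ∧ w ∈ Wt (psiQ (X := X)) 2 l) ∧ S.sum = y) hθ (fun l hl y hy => ⟨{y}, ?_, ?_⟩)
      ⟨0, by simp, by simp⟩ ?_
    · intro w hw; rw [Multiset.mem_singleton] at hw; exact ⟨l, hl, hw ▸ hy⟩
    · simp
    · rintro a b ⟨S, hS, rfl⟩ ⟨T, hT, rfl⟩
      exact ⟨S + T, fun w hw => (Multiset.mem_add.1 hw).elim (hS w) (hT w), Multiset.sum_add S T⟩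
  let I : Ideal (KQ X) := Ideal.span (S.toFinset : Set (KQ X))
  have hI : I ≤ nilradical (KQ X) := Ideal.span_le.2 fun w hw => by
    obtain ⟨l, hl, hwl⟩ := hS w (Multiset.mem_toFinset.1 hw)
    exact isNilpotent_of_Wt hL hl hwl
  obtain ⟨M, hM⟩ := Ideal.exists_pow_le_of_le_radical_of_fg hI ⟨S.toFinset, rfl⟩
  suffices H : ∀ (M k : ℕ) (z : KQ X), z ∈ Wt (psiQ (X := X)) 2 k → (∀ a ∈ I ^ M, a * z = 0) →
      InQF (k + d) (mapQ h z) from
    H M k z hz fun a ha => by rw [show a = 0 from (Ideal.mem_bot).1 (hM ha), zero_mul]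
  clear hM M hz z k
  intro M
  induction M with
  | zero =>
    intro k z _ hz
    have := hz 1 (by simp)
    rw [one_mul] at this
    rw [this, map_zero]
    exact InQF.zero _
  | succ M ih =>
    intro k z hz hzI
    refine inQF_of_psi ?_
    rw [psiQ_mapQ h hh, mem_Wt.1 hz]
    push_cast
    have e : incl θ * ((2 : KQ X) ^ k * z) =
        ((2 ^ (k + d) : ℕ) : KQ X) * z + ((2 ^ k : ℕ) : KQ X) * ((incl θ - (2 : KQ X) ^ d) * z) := by
      push_cast; ring
    rw [e, map_add, mapQ_natCast_mul, mapQ_natCast_mul]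
    push_cast
    rw [show (2 : KQ Y) ^ (k + d) * mapQ h z + 2 ^ k * mapQ h ((incl θ - (2 : KQ X) ^ d) * z) -
      2 ^ (k + d) * mapQ h z = ((2 ^ k : ℕ) : KQ Y) * mapQ h ((incl θ - (2 : KQ X) ^ d) * z) by push_cast; ring]
    refine InQF.natMul ?_ _
    rw [← hSsum, show S.sum * z = (S.map fun w => w * z).sum by rw [Multiset.sum_map_mul_right, Multiset.map_id'],
      map_multiset_sum, Multiset.map_map]
    refine Multiset.sum_induction _ _ (fun a b => InQF.add) (InQF.zero _) fun y hy => ?_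
    obtain ⟨w, hw, rfl⟩ := Multiset.mem_map.1 hy
    obtain ⟨l, hl, hwl⟩ := hS w hw
    refine (ih (l + k) (w * z) (Eigen.mul_mem_Wt hwl hz) fun a ha => ?_).mono (by omega)
    rw [← mul_assoc]
    refine hzI _ ?_
    rw [Submodule.pow_succ]
    exact Ideal.mul_mem_mul ha (Ideal.subset_span (Multiset.mem_toFinset.2 hw))

include hL hh hθ in
/-- The push forward maps `F^n` into `ℚ F^{n+d}`. -/
theorem exists_natMul_push_mem {n : ℕ} {x : KR X} (hx : x ∈ gammaFiltration (posStructure (X := X)) n) :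
    ∃ N : ℕ, 1 ≤ N ∧ (N : KR Y) * h x ∈ gammaFiltration (posStructure (X := Y)) (n + d) := by
  refine exists_natMul_mem ?_
  rw [← mapQ_incl]
  exact Eigen.W_induction (p := fun z => InQF (n + d) (mapQ h z)) (incl_mem_W hL hx)
    (fun k hk z hz => (inQF_mapQ hL h hh hθ hz).mono (by omega)) (by rw [map_zero]; exact InQF.zero _)
    fun a b ha hb => by rw [map_add]; exact ha.add hb

end Groth.L12.RR
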