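import Groth.Agent.L12.RR.TorReg
import Groth.Agent.L12.RR.ConormalRank
import Groth.Agent.L12.KRes.KPushCl
import Groth.Agent.L12.KRes.PushPd
import Groth.Agent.L22.C1.GysinBC
import Groth.Agent.L17.FlatBase.DegZero
import Groth.Agent.L00.PullStalk
import Groth.Agent.L19.LimMod.Zero

/-!
# Base change of a regular closed immersion of the same codimension
-/

set_option autoImplicit false
set_option maxHeartbeats 1600000
set_option linter.style.haveILetI false
set_option linter.unusedSectionVars false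
set_option backward.isDefEq.respectTransparency false
set_option backward.isDefEq.respectTransparency.types false

universe v u

open CategoryTheory CategoryTheory.Limits AlgebraicGeometry TopologicalSpace RingTheory.Sequence

noncomputable section

namespace Groth.L12.RR

open L02.CAlg.TorV
open Groth.L20.SeeNormal (sI)
open Groth.L12.KRes (CohPd PdLE Q qSC shortExact_qSC clPd)

variable {X Y P M : Scheme.{u}} {F : P ⟶ M} {φ : Y ⟶ M} {f : X ⟶ Y} {ψ : X ⟶ P}

theorem exists_regular_sI [IsClosedImmersion F] [IsLocallyNoetherian M] (hF : Mor2.IsRegularClosedImmersion F) {d : ℕ}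
    (hcF : FlatMod.IsFinLocFreeOfRank d (Omega.conormal F)) {m : M} (hm : m ∈ Set.range F) :
    ∃ rs : List (M.presheaf.stalk m), rs.length = d ∧ IsRegular (M.presheaf.stalk m) rs ∧ sI F.ker m = Ideal.ofList rs := by
  obtain ⟨q, rfl⟩ := hm
  obtain ⟨rs, h1, h2, h3⟩ := exists_regular_stalk_rank F hF hcF q
  exact ⟨rs, h1, h2, by rw [← h3, Groth.L20.Infinitesimal.ker_stalkMap]⟩

theorem exists_stalk_push_iso [IsClosedImmersion F] [IsLocallyNoetherian P] {A : P.Modules}
    (hA : FlatMod.IsFinLocFree A) {m : M} (hm : m ∈ Set.range F) :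
    ∃ r : ℕ, Nonempty ((Fin r → M.presheaf.stalk m ⧸ sI F.ker m) ≃ₗ[M.presheaf.stalk m]
      ((Groth.L00.Stk.F M m).obj ((Scheme.Modules.pushforward F).obj A))) := by
  obtain ⟨q, rfl⟩ := hm
  let g : M.presheaf.stalk (F q) →+* P.presheaf.stalk q := Groth.L00.PullStalk.φ F q
  have hg : Function.Surjective g := F.stalkMap_surjective q
  have hker : RingHom.ker g = sI F.ker (F q) := Groth.L20.Infinitesimal.ker_stalkMap F q
  let N := (Groth.L00.Stk.F P q).obj A
  haveI : Module.Free (P.presheaf.stalk q) N := Groth.L18.LFP.free_stalk A hA q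
  haveI : Module.Finite (P.presheaf.stalk q) N :=
    Groth.L18.LFP.finite_stalk A (Groth.L18.LFP.isFP_of_isFinLocFree A hA) q
  let b := Module.finBasis (P.presheaf.stalk q) N
  let σ : (M.presheaf.stalk (F q) ⧸ sI F.ker (F q)) ≃+* P.presheaf.stalk q :=
    (Ideal.quotEquivOfEq hker.symm).trans (RingHom.quotientKerEquivOfSurjective hg)
  let e₀ : (Fin (Module.finrank (P.presheaf.stalk q) N) → M.presheaf.stalk (F q) ⧸ sI F.ker (F q)) ≃ₗ[M.presheaf.stalk (F q)]
      ((ModuleCat.restrictScalars g).obj N : Type u) :=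
    { ((AddEquiv.piCongrRight fun _ => σ.toAddEquiv).trans b.equivFun.symm.toAddEquiv) with
      map_smul' := fun c v => by
        change b.equivFun.symm (fun i => σ (c • v i)) = g c • b.equivFun.symm (fun i => σ (v i))
        rw [← map_smul]
        congr 1
        funext i
        show σ (c • v i) = g c * σ (v i)
        rw [show c • v i = Ideal.Quotient.mk (sI F.ker (F q)) c * v i from Algebra.smul_def c (v i), map_mul]
        rfl }
  exact ⟨_, ⟨e₀ ≪≫ₗ (Groth.L17.ClosedPush.cIso F A q).toLinearEquiv.symm⟩⟩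

theorem ker_eq_comap [IsClosedImmersion F] (hsq : IsPullback f ψ φ F) : f.ker = F.ker.comap φ := by
  rw [← hsq.isoPullback_hom_fst, Scheme.Hom.ker_comp_of_isIso, Scheme.IdealSheafData.ker_fst_of_isClosedImmersion]

theorem exists_regular_pair [IsClosedImmersion F] [IsClosedImmersion f] [IsLocallyNoetherian M] [IsLocallyNoetherian Y]
    (hsq : IsPullback f ψ φ F) (hF : Mor2.IsRegularClosedImmersion F) (hf : Mor2.IsRegularClosedImmersion f) {d : ℕ}
    (hcF : FlatMod.IsFinLocFreeOfRank d (Omega.conormal F)) (hcf : FlatMod.IsFinLocFreeOfRank d (Omega.conormal f))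
    (y : Y) (hy : φ y ∈ Set.range F) :
    ∃ rs : List (M.presheaf.stalk (φ y)), sI F.ker (φ y) = Ideal.ofList rs ∧ IsWeaklyRegular (M.presheaf.stalk (φ y)) rs ∧
      IsWeaklyRegular (Y.presheaf.stalk y) (rs.map (φ.stalkMap y).hom) := by
  obtain ⟨rs, hlen, hrs, hI⟩ := exists_regular_sI hF hcF hy
  refine ⟨rs, hI, hrs.toIsWeaklyRegular, ?_⟩
  obtain ⟨q, hq⟩ := hy
  obtain ⟨x, hx, -⟩ := Scheme.Pullback.exists_preimage_pullback y q (f := φ) (g := F) hq.symm
  have hyr : y ∈ Set.range f := ⟨hsq.isoPullback.inv x, by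
    rw [← hx, ← hsq.isoPullback_inv_fst]
    rfl⟩
  obtain ⟨ts, htlen, hts, hJ⟩ := exists_regular_sI hf hcf hyr
  have hmap : Ideal.ofList ts = (Ideal.ofList rs).map (φ.stalkMap y).hom := by
    rw [← hI, ← hJ, ker_eq_comap hsq, Groth.L20.SeeNormal.sI_comap]
  rw [Ideal.map_ofList] at hmap
  rw [show rs.map (φ.stalkMap y).hom = List.ofFn fun k => (rs.map (φ.stalkMap y).hom).get k from (List.ofFn_get _).symm]
  refine isWeaklyRegular_of_span_eq hts (by rw [List.length_map, hlen, htlen]) _ ?_
  rw [hmap, Set.range_list_get]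

variable [IsNoetherian X] [IsNoetherian P] [IsNoetherian Y] [IsNoetherian M]

/-- All stalks of the cokernels in a resolution of a pushed forward bundle are Tor independent of the base change. -/
theorem van_Q (hsq : IsPullback f ψ φ F) (hF : Mor2.IsRegularClosedImmersion F) (hf : Mor2.IsRegularClosedImmersion f)
    {d : ℕ} (hcF : FlatMod.IsFinLocFreeOfRank d (Omega.conormal F)) (hcf : FlatMod.IsFinLocFreeOfRank d (Omega.conormal f))
    {A : P.Modules} (hA : FlatMod.IsFinLocFree A) {n : ℕ} {L : ChainComplex M.Modules ℕ}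
    {π : L ⟶ (ChainComplex.single₀ M.Modules).obj ((Scheme.Modules.pushforward F).obj A)}
    (hL : _root_.KRR.IsLFRes ((Scheme.Modules.pushforward F).obj A) n L π) (y : Y) :
    letI : Algebra (M.presheaf.stalk (φ y)) (Y.presheaf.stalk y) := (Groth.L00.PullStalk.φ φ y).toAlgebra
    ∀ j i, Van (M.presheaf.stalk (φ y)) (Y.presheaf.stalk y) ((Groth.L00.Stk.F M (φ y)).obj (Q L j)) i := by
  letI : Algebra (M.presheaf.stalk (φ y)) (Y.presheaf.stalk y) := (Groth.L00.PullStalk.φ φ y).toAlgebra
  haveI := hF.1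
  haveI := hf.1
  haveI := hL.quasiIso
  intro j
  induction j with
  | zero =>
    intro i
    obtain ⟨e⟩ := Groth.L12.KRes.nonempty_Q_zero_iso π
    refine Van.congr ?_ ((Groth.L00.Stk.F M (φ y)).mapIso e).toLinearEquiv.symm
    by_cases hy : φ y ∈ Set.range F
    · obtain ⟨r, ⟨e'⟩⟩ := exists_stalk_push_iso hA hy
      obtain ⟨rs, hI, h1, h2⟩ := exists_regular_pair hsq hF hf hcF hcf y hy
      exact van_free_quotient (l := rs) h1
        ((isWeaklyRegular_map_algebraMap_iff (Y.presheaf.stalk y) (Y.presheaf.stalk y) rs).1 h2)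
        ((LinearEquiv.piCongrRight fun _ => Submodule.quotEquivOfEq _ _ hI.symm) ≪≫ₗ e') i
    · haveI : Subsingleton ((Groth.L00.Stk.F M (φ y)).obj ((Scheme.Modules.pushforward F).obj A)) :=
        Groth.L17.ClosedPush.subsingleton_stalk_push F A hy
      exact van_of_subsingleton _ i
  | succ j ih =>
    intro i
    have hS := Groth.L12.KRes.shortExact_stalk (shortExact_qSC L j (Groth.L12.KRes.exactAt_of_quasiIso π j)) (φ y)
    haveI : Module.Free (M.presheaf.stalk (φ y)) ((Groth.L00.Stk.F M (φ y)).obj (L.X j)) :=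
      Groth.L18.LFP.free_stalk _ (hL.finLocFree j) (φ y)
    exact Van.left hS.moduleCat_injective_f hS.moduleCat_surjective_g
      ((ShortComplex.ShortExact.moduleCat_exact_iff_function_exact _).1 hS.exact)
      (van_of_flat_right (M := Y.presheaf.stalk y) ((Groth.L00.Stk.F M (φ y)).obj (L.X j)) i) (ih (i + 1))

/-- The pulled back resolution stays exact. -/
theorem shortExact_pull_qSC (hsq : IsPullback f ψ φ F) (hF : Mor2.IsRegularClosedImmersion F)
    (hf : Mor2.IsRegularClosedImmersion f) {d : ℕ} (hcF : FlatMod.IsFinLocFreeOfRank d (Omega.conormal F))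
    (hcf : FlatMod.IsFinLocFreeOfRank d (Omega.conormal f))
    {A : P.Modules} (hA : FlatMod.IsFinLocFree A) {n : ℕ} {L : ChainComplex M.Modules ℕ}
    {π : L ⟶ (ChainComplex.single₀ M.Modules).obj ((Scheme.Modules.pushforward F).obj A)}
    (hL : _root_.KRR.IsLFRes ((Scheme.Modules.pushforward F).obj A) n L π) (j : ℕ) :
    haveI : (Scheme.Modules.pullback φ).Additive := Groth.L19.LimMod.additive_pullback φ
    ((qSC L j).map (Scheme.Modules.pullback φ)).ShortExact := by
  haveI := hL.quasiIso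
  haveI : PreservesColimitsOfSize.{0, 0} (Scheme.Modules.pullback φ) :=
    (Scheme.Modules.pullbackPushforwardAdjunction φ).leftAdjoint_preservesColimits
  haveI : PreservesFiniteColimits (Scheme.Modules.pullback φ) :=
    PreservesColimitsOfSize.preservesFiniteColimits.{0, 0} _
  haveI : (Scheme.Modules.pullback φ).Additive := Groth.L19.LimMod.additive_pullback φ
  have hS := shortExact_qSC L j (Groth.L12.KRes.exactAt_of_quasiIso π j)
  haveI := hS.epi_g
  have hr := hS.exact.map_of_epi_of_preservesCokernel (Scheme.Modules.pullback φ) inferInstance inferInstance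
  refine ShortComplex.ShortExact.mk' hr ?_ (inferInstanceAs (Epi ((Scheme.Modules.pullback φ).map (qSC L j).g)))
  refine Preadditive.mono_of_isZero_kernel _ ((Groth.L00.Stk.isZero_iff _).2 fun y => ?_)
  letI : Algebra (M.presheaf.stalk (φ y)) (Y.presheaf.stalk y) := (Groth.L00.PullStalk.φ φ y).toAlgebra
  have hs := Groth.L12.KRes.shortExact_stalk hS (φ y)
  have hinj := Van.injective hs.moduleCat_injective_f hs.moduleCat_surjective_g
    ((ShortComplex.ShortExact.moduleCat_exact_iff_function_exact _).1 hs.exact)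
    (van_Q hsq hF hf hcF hcf hA hL y j 0)
  haveI : Mono ((ModuleCat.extendScalars (Groth.L00.PullStalk.φ φ y)).map ((Groth.L00.Stk.F M (φ y)).map (qSC L j).f)) :=
    (ModuleCat.mono_iff_injective _).2 hinj
  haveI : Mono ((Groth.L00.Stk.F Y y).map ((Scheme.Modules.pullback φ).map (qSC L j).f)) := by
    have e := (Groth.L00.PullStalk.stalkIso φ y).hom.naturality (qSC L j).f
    haveI : IsIso ((Groth.L00.PullStalk.stalkIso φ y).hom.app (qSC L j).X₁) := inferInstance
    haveI : Mono ((Groth.L00.Stk.F M (φ y) ⋙ ModuleCat.extendScalars (Groth.L00.PullStalk.φ φ y)).map (qSC L j).f) :=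
      ‹Mono ((ModuleCat.extendScalars (Groth.L00.PullStalk.φ φ y)).map ((Groth.L00.Stk.F M (φ y)).map (qSC L j).f))›
    haveI : Mono ((Groth.L00.PullStalk.stalkIso φ y).hom.app (qSC L j).X₁ ≫
        (Groth.L00.Stk.F M (φ y) ⋙ ModuleCat.extendScalars (Groth.L00.PullStalk.φ φ y)).map (qSC L j).f) := mono_comp _ _
    exact mono_of_mono_fac e
  exact (isZero_kernel_of_mono ((Groth.L00.Stk.F Y y).map ((Scheme.Modules.pullback φ).map (qSC L j).f))).of_iso
    (PreservesKernel.iso (Groth.L00.Stk.F Y y) _)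

/-- The base change formula on generators. -/
theorem clPd_push_pull (hsq : IsPullback f ψ φ F) (hF : Mor2.IsRegularClosedImmersion F)
    (hf : Mor2.IsRegularClosedImmersion f) {d : ℕ} (hcF : FlatMod.IsFinLocFreeOfRank d (Omega.conormal F))
    (hcf : FlatMod.IsFinLocFreeOfRank d (Omega.conormal f)) (hYe : _root_.KRR.HasEnoughLocFree Y)
    {A : P.Modules} (hA : FlatMod.IsFinLocFree A) {n : ℕ} {L : ChainComplex M.Modules ℕ}
    {π : L ⟶ (ChainComplex.single₀ M.Modules).obj ((Scheme.Modules.pushforward F).obj A)}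
    (hL : _root_.KRR.IsLFRes ((Scheme.Modules.pushforward F).obj A) n L π) :
    clPd hYe ((Scheme.Modules.pushforward f).obj ((Scheme.Modules.pullback ψ).obj A)) =
      ∑ k ∈ Finset.range (n + 1), (-1 : ℤ) ^ k • _root_.KRR.cl Y ((Scheme.Modules.pullback φ).obj (L.X k)) := by
  haveI := hF.1
  haveI := hf.1
  haveI := hL.quasiIso
  haveI : PreservesColimitsOfSize.{0, 0} (Scheme.Modules.pullback φ) :=
    (Scheme.Modules.pullbackPushforwardAdjunction φ).leftAdjoint_preservesColimits
  haveI : PreservesFiniteColimits (Scheme.Modules.pullback φ) :=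
    PreservesColimitsOfSize.preservesFiniteColimits.{0, 0} _
  haveI : (Scheme.Modules.pullback φ).Additive := Groth.L19.LimMod.additive_pullback φ
  haveI : Coh.IsQCoh A := Groth.L04.FinLocFreeHom.isQCoh_of_finLocFree hA
  let G := Scheme.Modules.pullback φ
  have hlf : ∀ k, FlatMod.IsFinLocFree (G.obj (L.X k)) := fun k =>
    Groth.L29.LocFree.pullback φ (hL.finLocFree k)
  have hCl : ∀ k, CohPd (G.obj (L.X k)) := fun k =>
    ⟨((Groth.L12.KRes.vb_iff).1 (hlf k)).1, 0, ((Groth.L12.KRes.vb_iff).1 (hlf k)).2⟩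
  have hS : ∀ j, ((qSC L j).map G).ShortExact := fun j => shortExact_pull_qSC hsq hF hf hcF hcf hA hL j
  have hQ : ∀ j, Coh.IsCoh (G.obj (Q L j)) := fun j => by
    have hc : Coh.IsCoh (Q L j) := by
      have hS' := shortExact_qSC L j (Groth.L12.KRes.exactAt_of_quasiIso π j)
      exact (Groth.L12.KRes.cohPd_Q hL.finLocFree (fun i hi => hL.isZero i hi)
        (fun i => Groth.L12.KRes.exactAt_of_quasiIso π i) j).1
    exact Groth.L19.LimMod.isCoh_pullback' φ hc
  have hpd : ∀ k j, n + 1 ≤ j + k → CohPd (G.obj (Q L j)) ∧ clPd hYe (G.obj (Q L j)) =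
      ∑ i ∈ Finset.range k, (-1 : ℤ) ^ i • _root_.KRR.cl Y (G.obj (L.X (j + i))) := by
    intro k
    induction k with
    | zero =>
      intro j hj
      have hz : IsZero (G.obj (Q L j)) := G.map_isZero (Groth.L12.KRes.isZero_Q L (hL.isZero j (by omega)))
      have h0 : FlatMod.IsFinLocFree (G.obj (Q L j)) := Groth.L29.LocFree.of_isZero hz
      refine ⟨⟨((Groth.L12.KRes.vb_iff).1 h0).1, 0, ((Groth.L12.KRes.vb_iff).1 h0).2⟩, ?_⟩
      rw [Groth.L12.KRes.clPd_vb hYe h0, Finset.sum_range_zero]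
      exact Groth.L29.KSub.clSub_zero _ hz h0
    | succ k ih =>
      intro j hj
      obtain ⟨h1, e1⟩ := ih (j + 1) (by omega)
      have h3 : CohPd (G.obj (Q L j)) := Groth.L12.KRes.CohPd.right (hS j) h1 (hCl j) (hQ j)
      refine ⟨h3, ?_⟩
      have := Groth.L12.KRes.clPd_shortExact hYe (hS j) h1 (hCl j) h3
      simp only [ShortComplex.map_X₁, ShortComplex.map_X₂, ShortComplex.map_X₃, qSC] at this
      rw [e1, Groth.L12.KRes.clPd_vb hYe (hlf j)] at this
      rw [Finset.sum_range_succ', pow_zero, one_smul, eq_sub_of_add_eq' this.symm, add_zero, sub_eq_add_neg,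
        add_comm, ← Finset.sum_neg_distrib]
      refine congrArg (· + _) (Finset.sum_congr rfl fun i _ => ?_)
      rw [pow_succ, mul_neg, mul_one, neg_smul, show j + 1 + i = j + (i + 1) by omega]
  obtain ⟨h0, e0⟩ := hpd (n + 1) 0 (by omega)
  obtain ⟨q⟩ := Groth.L12.KRes.nonempty_Q_zero_iso π
  haveI := Groth.L17.DegZero.isIso_of_isAffineHom (F := A) (f := F) (g := φ) (g' := ψ) (f' := f) hsq.flip
  let bc : G.obj ((Scheme.Modules.pushforward F).obj A) ≅
      (Scheme.Modules.pushforward f).obj ((Scheme.Modules.pullback ψ).obj A) :=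
    asIso (((Scheme.Modules.pullbackPushforwardAdjunction φ).homEquiv _ _).symm
      (Groth.L17.DegZero.vMap F φ ψ f hsq.flip.w A))
  rw [← Groth.L12.KRes.clPd_iso hYe (G.mapIso q ≪≫ bc) h0, e0]
  exact Finset.sum_congr rfl fun i _ => by rw [zero_add]

end Groth.L12.RR
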