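import Groth.Agent.L12.RR.Psi
import Groth.Agent.L12.KBunQ.Special

/-!
# Adams operations on the ring of bundles of a quasi-compact scheme
-/

set_option autoImplicit false
set_option maxHeartbeats 400000
set_option linter.style.haveILetI false
set_option linter.unusedSectionVars false
set_option backward.isDefEq.respectTransparency false
set_option backward.isDefEq.respectTransparency.types false

universe v u

open CategoryTheory CategoryTheory.Limits AlgebraicGeometry TopologicalSpace

noncomputable section

namespace Groth.L12.RR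

open Groth.L12.Kvb (KR toKR)
open Groth.L12.KBunQ
open Groth.L12.ExtSh (wedgeMod)
open Groth.L00.Tensor (tensorComm)

variable {X : Scheme.{u}}

theorem thin_of_line {z : KR X} (hz : Line z) : Thin z := fun n hn => lineSet.lam z hz n hn

/-- The splitting principle with the number of lines. -/
theorem exists_split_sum : ∀ (m : ℕ) (X : Scheme.{u}) [CompactSpace X] (E : X.Modules),
    FlatMod.IsFinLocFreeOfRank m E → ∃ (X' : Scheme.{u}) (_ : CompactSpace X') (g : KR X →+* KR X')
      (s : Multiset (KR X')), Split X X' g ∧ (∀ u ∈ s, Line u) ∧ Multiset.card s = m ∧ g (kc X E) = s.sum := by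
  intro m
  induction m with
  | zero =>
    intro X _ E hE
    exact ⟨X, inferInstance, _, 0, Split.refl X, by simp, rfl,
      (RingHom.id_apply _).trans ((kc_zero (Groth.L12.Kvb.isZero_of_rank_zero hE)).trans Multiset.sum_zero.symm)⟩
  | succ m ih =>
    intro X _ E hE
    haveI := Groth.L29.DC.PCQCoh.isQCoh_of_isFinLocFree (Groth.L18.KRRAmple.isFinLocFree_of_rank hE)
    obtain ⟨P, π, O1, q, hG⟩ := Groth.L18.QuotExist.exists_isGrass E 1
    have hP := hG.isProjBundle
    obtain ⟨A⟩ := Groth.L12.KBun.exists_atlas hP hE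
    haveI : IsProper π := A.isProper
    haveI : CompactSpace P := QuasiCompact.compactSpace_of_compactSpace π
    have hO := Groth.L22.GenRank.isInvertible_of_rank_one hP.invertible
    obtain ⟨L, hL, ⟨eL⟩⟩ := Groth.L08.Cube.exists_inverse hO
    have D : Setup π q L m :=
      ⟨hP.epi, hP.invertible, hE, hL, ⟨tensorComm L O1 ≪≫ eL⟩⟩
    haveI := Groth.L29.DC.PCQCoh.isQCoh_of_isFinLocFree (Groth.L18.KRRAmple.isFinLocFree_of_rank hP.invertible)
    haveI := Groth.L29.DC.PCQCoh.isQCoh_of_isFinLocFree D.vbW
    obtain ⟨g, hg⟩ := exists_pull π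
    have hinj : Function.Injective g := by
      intro a b hab
      have hb := (D.bijective_combInv A g hg).1 (a₁ := Pi.single 0 a) (a₂ := Pi.single 0 b) ?_
      · simpa using congrFun hb 0
      rw [Setup.combInv_apply, Setup.combInv_apply, Finset.sum_eq_single (0 : Fin (m + 1)),
        Finset.sum_eq_single (0 : Fin (m + 1))]
      · simp only [Pi.single_eq_same, hab]
      all_goals first
        | exact fun h => absurd (Finset.mem_univ _) h
        | exact fun j _ hj => by rw [Pi.single_eq_of_ne hj, map_zero, zero_mul]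
    obtain ⟨X', _, g', s, hg', hs, hcard, hsum⟩ :=
      ih P (Groth.L12.KBun.tautSC q).X₁ (rank_taut hP.epi hP.invertible hE)
    refine ⟨X', inferInstance, g'.comp g, g' (kc P O1) ::ₘ s, (split_of_pull π hinj hg).comp hg', ?_, ?_, ?_⟩
    · intro u hu
      rcases Multiset.mem_cons.1 hu with rfl | hu
      · exact hg'.line _ ⟨O1, subLine_of_rank_one hP.invertible, rfl⟩
      · exact hs u hu
    · rw [Multiset.card_cons, hcard]
    rw [RingHom.comp_apply, hg E D.vbE]
    have hkc : kc P ((Scheme.Modules.pullback π).obj E) = kc P (Groth.L12.KBun.tautSC q).X₁ + kc P O1 :=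
      kc_shortExact (shortExact_tautSC hP.epi) D.vbW (Groth.L29.LocFree.pullback π D.vbE)
        (Groth.L18.KRRAmple.isFinLocFree_of_rank hP.invertible)
    rw [hkc, map_add, hsum, Multiset.sum_cons, add_comm]

theorem psi_one_KR {j : ℕ} (hj : j ≠ 0) : psi j (1 : KR X) = 1 :=
  psi_one hj (thin_of_line lineSet.one)

variable [CompactSpace X]

/-- The Adams operations are multiplicative. -/
theorem psi_mul {j : ℕ} (hj : j ≠ 0) (x y : KR X) : psi j (x * y) = psi j x * psi j y := by
  obtain ⟨X₁, _, g₁, hg₁, h₁⟩ := exists_split_elem x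
  obtain ⟨X₂, _, g₂, hg₂, h₂⟩ := exists_split_elem (g₁ y)
  have hf := hg₁.comp hg₂
  have hbilin : ∀ a : KR X₂, InLines Line a → ∀ b : KR X₂, InLines Line b → psi j (a * b) = psi j a * psi j b := by
    intro a ha
    induction ha using AddSubgroup.closure_induction with
    | mem u hu =>
      intro b hb
      induction hb using AddSubgroup.closure_induction with
      | mem v hv => rw [psi_of_thin (thin_of_line (lineSet.mul u v hu hv)) hj, psi_of_thin (thin_of_line hu) hj,
          psi_of_thin (thin_of_line hv) hj, mul_pow]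
      | zero => rw [mul_zero, psi_zero, mul_zero]
      | add v w _ _ hv hw => rw [mul_add, psi_add, hv, hw, psi_add, mul_add]
      | neg v _ hv => rw [mul_neg, psi_neg, hv, psi_neg, mul_neg]
    | zero => intro b _; rw [zero_mul, psi_zero, zero_mul]
    | add v w _ _ hv hw => intro b hb; rw [add_mul, psi_add, hv b hb, hw b hb, psi_add, add_mul]
    | neg v _ hv => intro b hb; rw [neg_mul, psi_neg, hv b hb, psi_neg, neg_mul]
  apply hf.inj
  rw [map_mul, map_psi _ hf.lam, map_psi _ hf.lam, map_psi _ hf.lam, map_mul]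
  exact hbilin _ (hg₂.inLines h₁) _ h₂

/-- The Adams operation of `λ_{-1}` of a bundle. -/
theorem psi_lamA {j : ℕ} (hj : j ≠ 0) {d : ℕ} {E : X.Modules} (hE : FlatMod.IsFinLocFreeOfRank d E) :
    psi j (lamA d (kc X E)) = lamA d (kc X E) * theta j d (kc X E) := by
  obtain ⟨X', _, g, s, hg, hs, rfl, hsum⟩ := exists_split_sum d X E hE
  apply hg.inj
  rw [map_mul, map_psi g hg.lam, map_lamA g hg.lam, map_theta g hg.lam, hsum]
  exact psi_lamA_sum lineSet.one lineSet.mul (fun a ha => thin_of_line ha) hs hj

end Groth.L12.RR
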