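import Groth.Agent.L12.RR.Push
import Groth.Agent.L12.KBun.Transfer
import Groth.Agent.L12.Kvb.Rank

/-!
# Passing between the ring of bundles and a model
-/

set_option autoImplicit false
set_option maxHeartbeats 400000
set_option linter.style.haveILetI false
set_option linter.unusedSectionVars false
set_option backward.isDefEq.respectTransparency false
set_option backward.isDefEq.respectTransparency.types false

universe v u

open CategoryTheory CategoryTheory.Limits AlgebraicGeometry LambdaRing

attribute [local instance] HasDerivedCategory.standard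

noncomputable section

namespace Groth.L12.RR

open Groth.L12.Kvb (KR toKR)
open Groth.L12.KBunQ (kc)

variable {X Y : Scheme.{u}}

/-- A model is the ring of bundles. -/
theorem exists_equiv [ConnectedSpace ↥X] {K : Type v} [CommRing K] [LambdaOps K] {P : PosStructure K}
    {φ : SGA6.Kvb X →+ K} (hK : _root_.KRR.IsModel X K P φ) :
    ∃ e : KR X ≃+* K, (∀ z : SGA6.Kvb X, e (toKR X z) = φ z) ∧
      (∀ E, FlatMod.IsFinLocFree E → e (kc X E) = φ (_root_.KRR.cl X E)) ∧
      ∀ i x, e (LambdaOps.lam i x) = LambdaOps.lam i (e x) := by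
  obtain ⟨e, he, hl, -⟩ := Groth.L12.KBun.exists_modelEquiv Groth.L12.Kvb.isModel hK
  have h1 : e.toAddMonoidHom.comp (toKR X) = φ := Groth.L29.KSub.hom_ext fun F hF => he F hF
  exact ⟨e, fun z => DFunLike.congr_fun h1 z, he, hl⟩

/-- Push forward of models is the push forward of classes. -/
theorem map_pushK [IsNoetherian X] [IsNoetherian Y] {KX : Type v} [CommRing KX] {KY : Type v} [CommRing KY]
    (f : X ⟶ Y) (hf : Mor2.IsRegularClosedImmersion f) (hYe : _root_.KRR.HasEnoughLocFree Y)
    {φX : SGA6.Kvb X →+ KX} {φY : SGA6.Kvb Y →+ KY} {h : KX →+ KY} (hh : _root_.KRR.IsPushCl f φX φY h)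
    {eX : KR X → KX} (hX : ∀ z, eX (toKR X z) = φX z) {eY : KR Y → KY} (hY : ∀ z, eY (toKR Y z) = φY z)
    (x : KR X) : h (eX x) = eY (pushK f hf hYe x) := by
  obtain ⟨z, rfl⟩ := Groth.L12.Kvb.toKR_bijective.2 x
  rw [hX]
  exact (Groth.L12.KRes.map_pushCl f hf hYe φX φY hh z).trans (hY _).symm

end Groth.L12.RR
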