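import Groth.Agent.L12.KRes.KPushCl
import Groth.Agent.L12.KBunQ.Ring
import Groth.Agent.L16.Exist.OpenPush
import Groth.Agent.L21.Mod.Locality

/-!
# The class of a finite complex of bundles restricted to where it is exact
-/

set_option autoImplicit false
set_option maxHeartbeats 400000
set_option linter.style.haveILetI false
set_option linter.unusedSectionVars false
set_option backward.isDefEq.respectTransparency false
set_option backward.isDefEq.respectTransparency.types false

universe v u

open CategoryTheory CategoryTheory.Limits AlgebraicGeometry TopologicalSpace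

noncomputable section

namespace Groth.L12.RR

open Groth.L12.Kvb (KR toKR)
open Groth.L12.KBunQ (kc kc_iso kc_zero kc_shortExact exists_pull)
open Groth.L12.KRes (Q qSC shortExact_qSC isZero_Q)

variable {M Z : Scheme.{u}}

/-- A resolution of a module vanishing on `U` has trivial class after pull-back through `U`. -/
theorem sum_kc_pullback_eq_zero {A : M.Modules} {n : ℕ} {L : ChainComplex M.Modules ℕ}
    {π : L ⟶ (ChainComplex.single₀ M.Modules).obj A} (h : _root_.KRR.IsLFRes A n L π) (U : M.Opens)
    (hA : IsZero ((Scheme.Modules.restrictFunctor U.ι).obj A)) (k : Z ⟶ U.toScheme) :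
    ∑ i ∈ Finset.range (n + 1), (-1 : ℤ) ^ i • kc Z ((Scheme.Modules.pullback (k ≫ U.ι)).obj (L.X i)) = 0 := by
  haveI := h.quasiIso
  let G := Scheme.Modules.restrictFunctor U.ι
  haveI : PreservesColimits G := (Scheme.Modules.restrictAdjunction U.ι).leftAdjoint_preservesColimits
  haveI : G.Additive := Functor.additive_of_preserves_binary_products G
  have hX : ∀ i, FlatMod.IsFinLocFree (G.obj (L.X i)) := fun i =>
    Groth.L29.LocFree.of_iso ((Scheme.Modules.restrictFunctorIsoPullback U.ι).app _).symm
      (Groth.L29.LocFree.pullback U.ι (h.finLocFree i))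
  have hS : ∀ j, ((qSC L j).map G).ShortExact := fun j =>
    (shortExact_qSC L j (Groth.L12.KRes.exactAt_of_quasiIso π j)).map_of_exact G
  have h0 : IsZero (G.obj (Q L 0)) := hA.of_iso (G.mapIso (Groth.L12.KRes.nonempty_Q_zero_iso π).some)
  have hvb : ∀ j, FlatMod.IsFinLocFree (G.obj (Q L j)) := by
    intro j
    induction j with
    | zero => exact Groth.L29.LocFree.of_isZero h0
    | succ j ih =>
      haveI : Epi ((qSC L j).map G).g := (hS j).epi_g
      exact Groth.L29.LocFree.of_iso
        (IsLimit.conePointUniqueUpToIso (kernelIsKernel _) (hS j).fIsKernel)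
        (Groth.L29.DC.isFinLocFree_kernel_of_epi ((qSC L j).map G).g (hX j) ih)
  have key : ∀ d j, j + d = n + 1 → kc U.toScheme (G.obj (Q L j)) =
      ∑ i ∈ Finset.range d, (-1 : ℤ) ^ i • kc U.toScheme (G.obj (L.X (j + i))) := by
    intro d
    induction d with
    | zero =>
      intro j hj
      rw [Finset.sum_range_zero, kc_zero (G.map_isZero (isZero_Q L (h.isZero j (by omega))))]
    | succ d ih =>
      intro j hj
      have hh : kc U.toScheme (G.obj (L.X j)) =
          kc U.toScheme (G.obj (Q L (j + 1))) + kc U.toScheme (G.obj (Q L j)) :=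
        kc_shortExact (hS j) (hvb (j + 1)) (hX j) (hvb j)
      rw [eq_sub_of_add_eq' hh.symm, ih (j + 1) (by omega), Finset.sum_range_succ']
      simp only [pow_zero, one_smul, Nat.add_zero, pow_succ, mul_neg, mul_one, neg_smul, Finset.sum_neg_distrib,
        Nat.add_right_comm j 1, ← Nat.add_assoc]
      abel
  have hsum := key (n + 1) 0 (Nat.zero_add _)
  rw [kc_zero h0] at hsum
  obtain ⟨g, hg⟩ := exists_pull k
  have e : ∀ i, kc Z ((Scheme.Modules.pullback (k ≫ U.ι)).obj (L.X i)) = g (kc U.toScheme (G.obj (L.X i))) := fun i => by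
    rw [hg _ (hX i)]
    refine kc_iso (((Scheme.Modules.pullbackComp k U.ι).app _).symm ≪≫ (Scheme.Modules.pullback k).mapIso
      ((Scheme.Modules.restrictFunctorIsoPullback U.ι).app _).symm) (Groth.L29.LocFree.pullback _ (h.finLocFree i))
  simp only [Nat.zero_add] at hsum
  rw [Finset.sum_congr rfl fun i _ => congrArg (fun z => (-1 : ℤ) ^ i • z) (e i)]
  rw [show (∑ i ∈ Finset.range (n + 1), (-1 : ℤ) ^ i • g (kc U.toScheme (G.obj (L.X i)))) =
    g (∑ i ∈ Finset.range (n + 1), (-1 : ℤ) ^ i • kc U.toScheme (G.obj (L.X i))) by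
      rw [map_sum]; exact Finset.sum_congr rfl fun i _ => (map_zsmul g _ _).symm, ← hsum, map_zero]

end Groth.L12.RR
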