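import Mathlib.LinearAlgebra.TensorProduct.Tower
import Mathlib.RingTheory.TensorProduct.Maps
import Mathlib.RingTheory.Flat.Basic
import Mathlib.Algebra.Algebra.Rat
import Mathlib.Algebra.Algebra.Hom.Rat
import Mathlib.RingTheory.Nilpotent.Basic
import Mathlib.Algebra.Polynomial.Eval.Defs
import Mathlib.Tactic

/-!
# Weights for a ring endomorphism of a rational algebra
-/

set_option autoImplicit false

universe v w

noncomputable section

namespace Groth.L12.RR.Eigen

variable {A : Type v} [CommRing A] [Algebra ℚ A] (ψ : A →+* A) (j : ℕ)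

/-- The eigenvectors of weight `k`. -/
def Wt (k : ℕ) : Submodule ℚ A := LinearMap.ker (ψ.toRatAlgHom.toLinearMap - (j : ℚ) ^ k • LinearMap.id)

/-- Sums of eigenvectors of weight at least `n`. -/
def W (n : ℕ) : Submodule ℚ A := ⨆ k : {k : ℕ // n ≤ k}, Wt ψ j k.1

variable {ψ j}

theorem mem_Wt {k : ℕ} {x : A} : x ∈ Wt ψ j k ↔ ψ x = (j : A) ^ k * x := by
  rw [Wt, LinearMap.mem_ker, LinearMap.sub_apply, sub_eq_zero]
  show ψ x = (j : ℚ) ^ k • x ↔ _
  rw [Algebra.smul_def, map_pow, map_natCast]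

theorem Wt_le_W {n k : ℕ} (h : n ≤ k) : Wt ψ j k ≤ W ψ j n := le_iSup (fun k : {k // n ≤ k} => Wt ψ j k.1) ⟨k, h⟩

theorem W_antitone {m n : ℕ} (h : m ≤ n) : W ψ j n ≤ W ψ j m := iSup_le fun k => Wt_le_W (h.trans k.2)

theorem one_mem_Wt : (1 : A) ∈ Wt ψ j 0 := mem_Wt.2 (by simp)

theorem one_mem_W : (1 : A) ∈ W ψ j 0 := Wt_le_W le_rfl one_mem_Wt

theorem natCast_mem_W (N : ℕ) : (N : A) ∈ W ψ j 0 := by
  have := (W ψ j 0).smul_mem (N : ℚ) one_mem_W
  rwa [Algebra.smul_def, map_natCast, mul_one] at this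

theorem mul_mem_Wt {k l : ℕ} {x y : A} (hx : x ∈ Wt ψ j k) (hy : y ∈ Wt ψ j l) : x * y ∈ Wt ψ j (k + l) := by
  rw [mem_Wt] at hx hy ⊢
  rw [map_mul, hx, hy, pow_add]
  ring

theorem W_induction {n : ℕ} {p : A → Prop} {x : A} (hx : x ∈ W ψ j n)
    (h : ∀ k, n ≤ k → ∀ y ∈ Wt ψ j k, p y) (h0 : p 0) (hadd : ∀ a b, p a → p b → p (a + b)) : p x :=
  Submodule.iSup_induction (motive := p) (fun k : {k : ℕ // n ≤ k} => Wt ψ j k.1) hx (fun k y hy => h k.1 k.2 y hy) h0 hadd

theorem mul_mem_W {m n : ℕ} {x y : A} (hx : x ∈ W ψ j m) (hy : y ∈ W ψ j n) : x * y ∈ W ψ j (m + n) := by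
  refine W_induction (p := fun x => x * y ∈ W ψ j (m + n)) hx (fun k hk a ha => ?_) (by simp) fun a b ha hb => by
    rw [add_mul]; exact add_mem ha hb
  refine W_induction (p := fun y => a * y ∈ W ψ j (m + n)) hy (fun l hl c hc => ?_) (by simp) fun c d hc hd => by
    rw [mul_add]; exact add_mem hc hd
  exact Wt_le_W (Nat.add_le_add hk hl) (mul_mem_Wt ha hc)

variable (ψ j) in
/-- `ψ - j ^ k`. -/
def op (k : ℕ) (x : A) : A := ψ x - (j : A) ^ k * x

theorem op_comm (k l : ℕ) (x : A) : op ψ j k (op ψ j l x) = op ψ j l (op ψ j k x) := by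
  simp only [op, map_sub, map_mul, map_pow, map_natCast]
  ring

variable (ψ j) in
/-- Successive application of `ψ - j ^ k`. -/
def kill : List ℕ → A → A
  | [], x => x
  | k :: l, x => kill l (op ψ j k x)

theorem kill_append (l l' : List ℕ) (x : A) : kill ψ j (l ++ l') x = kill ψ j l' (kill ψ j l x) := by
  induction l generalizing x with
  | nil => rfl
  | cons k l ih => exact ih _

theorem kill_add (l : List ℕ) (x y : A) : kill ψ j l (x + y) = kill ψ j l x + kill ψ j l y := by
  induction l generalizing x y with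
  | nil => rfl
  | cons k l ih => simp only [kill]; rw [← ih]; congr 1; simp only [op, map_add]; ring

theorem kill_zero (l : List ℕ) : kill ψ j l (0 : A) = 0 := by
  induction l with
  | nil => rfl
  | cons k l ih => simp only [kill, op, map_zero, mul_zero, sub_zero, ih]

theorem kill_op (l : List ℕ) (k : ℕ) (x : A) : kill ψ j l (op ψ j k x) = op ψ j k (kill ψ j l x) := by
  induction l generalizing x with
  | nil => rfl
  | cons m l ih => simp only [kill]; rw [op_comm, ih]

theorem kill_perm {l l' : List ℕ} (h : l.Perm l') (x : A) : kill ψ j l x = kill ψ j l' x := by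
  induction h generalizing x with
  | nil => rfl
  | cons k _ ih => exact ih _
  | swap a b l => simp only [kill]; rw [op_comm]
  | trans _ _ h1 h2 => rw [h1, h2]

/-- A sum of eigenvectors is killed. -/
theorem exists_kill {n : ℕ} {x : A} (hx : x ∈ W ψ j n) :
    ∃ s : Finset ℕ, (∀ k ∈ s, n ≤ k) ∧ kill ψ j s.toList x = 0 := by
  have grow : ∀ (s t : Finset ℕ) (y : A), s ⊆ t → kill ψ j s.toList y = 0 → kill ψ j t.toList y = 0 := by
    intro s t y hst hy
    rw [kill_perm (l' := s.toList ++ (t \ s).toList) ?_, kill_append, hy, kill_zero]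
    refine Multiset.coe_eq_coe.1 ?_
    rw [← Multiset.coe_add, Finset.coe_toList, Finset.coe_toList, Finset.coe_toList,
      Multiset.add_eq_union_iff_disjoint.2 (Finset.disjoint_val.2 Finset.disjoint_sdiff), ← Finset.union_val,
      Finset.union_sdiff_of_subset hst]
  refine W_induction (p := fun x => ∃ s : Finset ℕ, (∀ k ∈ s, n ≤ k) ∧ kill ψ j s.toList x = 0) hx
    (fun k hk y hy => ⟨{k}, by simp [hk], ?_⟩) ⟨∅, by simp, kill_zero _⟩ ?_
  · simp only [Finset.toList_singleton, kill, op, mem_Wt.1 hy, sub_self]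
  · rintro a b ⟨s, hs, ha⟩ ⟨t, ht, hb⟩
    refine ⟨s ∪ t, fun k hk => (Finset.mem_union.1 hk).elim (hs k) (ht k), ?_⟩
    rw [kill_add, grow s _ a Finset.subset_union_left ha, grow t _ b Finset.subset_union_right hb, add_zero]

/-- Elements killed by distinct weights are sums of eigenvectors. -/
theorem mem_iSup_of_kill (hj : 2 ≤ j) :
    ∀ (l : List ℕ), l.Nodup → ∀ x : A, kill ψ j l x = 0 → x ∈ ⨆ k : {k : ℕ // k ∈ l}, Wt ψ j k.1
  | [], _, x, hx => by simp only [kill] at hx; rw [hx]; exact zero_mem _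
  | k :: l, hnd, x, hx => by
    obtain ⟨hk, hnd⟩ := List.nodup_cons.1 hnd
    let S := ⨆ m : {m : ℕ // m ∈ l}, Wt ψ j m.1
    have h1 : op ψ j k x ∈ S := mem_iSup_of_kill hj l hnd _ hx
    obtain ⟨x', hx', he⟩ : ∃ x' ∈ S, op ψ j k x' = op ψ j k x := by
      refine Submodule.iSup_induction (fun m : {m : ℕ // m ∈ l} => Wt ψ j m.1)
        (motive := fun y => ∃ x' ∈ S, op ψ j k x' = y) h1 (fun m y hy => ?_)
        ⟨0, zero_mem _, by simp [op]⟩ ?_
      · let c : ℚ := (j : ℚ) ^ m.1 - (j : ℚ) ^ k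
        have hc : c ≠ 0 := by
          refine sub_ne_zero.2 fun h => hk ?_
          have h' : j ^ m.1 = j ^ k := by exact_mod_cast h
          rw [← Nat.pow_right_injective hj h']
          exact m.2
        refine ⟨c⁻¹ • y, Submodule.mem_iSup_of_mem m ((Wt ψ j m.1).smul_mem _ hy), ?_⟩
        have h2 : op ψ j k (c⁻¹ • y) = algebraMap ℚ A c⁻¹ * (algebraMap ℚ A c * y) := by
          rw [op, Algebra.smul_def, map_mul, mem_Wt.1 hy, RingHom.map_rat_algebraMap]
          simp only [c, map_sub, map_pow, map_natCast]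
          ring
        rw [h2, ← mul_assoc, ← map_mul, inv_mul_cancel₀ hc, map_one, one_mul]
      · rintro a b ⟨a', ha', rfl⟩ ⟨b', hb', rfl⟩
        exact ⟨a' + b', add_mem ha' hb', by simp only [op, map_add]; ring⟩
    have hle : S ≤ ⨆ m : {m : ℕ // m ∈ k :: l}, Wt ψ j m.1 := iSup_le fun m =>
      le_iSup (fun m : {m : ℕ // m ∈ k :: l} => Wt ψ j m.1) ⟨m.1, List.mem_cons_of_mem _ m.2⟩
    have h3 : x - x' ∈ Wt ψ j k := mem_Wt.2 (by
      have : op ψ j k (x - x') = 0 := by
        rw [show op ψ j k (x - x') = op ψ j k x - op ψ j k x' by simp only [op, map_sub]; ring, he, sub_self]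
      exact sub_eq_zero.1 this)
    rw [show x = (x - x') + x' by ring]
    exact add_mem (Submodule.mem_iSup_of_mem ⟨k, List.mem_cons_self⟩ h3) (hle hx')

theorem mem_W_of_kill (hj : 2 ≤ j) {n : ℕ} {s : Finset ℕ} (hs : ∀ k ∈ s, n ≤ k) {x : A}
    (h : kill ψ j s.toList x = 0) : x ∈ W ψ j n :=
  (iSup_le fun k : {k : ℕ // k ∈ s.toList} => Wt_le_W (hs k.1 (Finset.mem_toList.1 k.2)))
    (mem_iSup_of_kill hj _ s.nodup_toList x h)

section Map

variable {B : Type w} [CommRing B] [Algebra ℚ B] {ψ' : B →+* B}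

theorem map_kill (g : A →+* B) (hg : ∀ x, g (ψ x) = ψ' (g x)) (l : List ℕ) (x : A) :
    g (kill ψ j l x) = kill ψ' j l (g x) := by
  induction l generalizing x with
  | nil => rfl
  | cons k l ih =>
    simp only [kill]
    rw [ih]
    congr 1
    simp only [op, map_sub, map_mul, map_pow, map_natCast, hg]

/-- Weights are detected by injective maps. -/
theorem mem_W_of_injective (hj : 2 ≤ j) (g : A →+* B) (hgi : Function.Injective g)
    (hg : ∀ x, g (ψ x) = ψ' (g x)) {n : ℕ} {x : A} (hx : g x ∈ W ψ' j n) : x ∈ W ψ j n := by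
  obtain ⟨s, hs, h⟩ := exists_kill hx
  exact mem_W_of_kill hj hs (hgi (by rw [map_kill g hg, h, map_zero]))

end Map

/-- Powers of a nilpotent `u - 1` where `ψ u = u ^ j`. -/
theorem pow_mul_mem_W (hj : 2 ≤ j) {t : A} (ht : IsNilpotent t) (hψ : ψ (1 + t) = (1 + t) ^ j) (k : ℕ)
    (P : Polynomial A) (hP : ∀ i, ψ (P.coeff i) = P.coeff i) :
    t ^ k * P.eval t ∈ W ψ j k := by
  obtain ⟨N, hN⟩ := ht
  have hs : ∃ b : Polynomial A, (∀ i, ψ (b.coeff i) = b.coeff i) ∧ ψ t = t * ((j : A) + t * b.eval t) := by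
    refine ⟨∑ l ∈ Finset.range (j - 1), Polynomial.C ((j.choose (l + 2) : ℕ) : A) * Polynomial.X ^ l,
      fun i => ?_, ?_⟩
    · rw [Polynomial.finset_sum_coeff, map_sum]
      refine Finset.sum_congr rfl fun l _ => ?_
      rw [Polynomial.coeff_C_mul_X_pow]
      split_ifs <;> simp
    · have h1 : ψ t = (1 + t) ^ j - 1 := by rw [← hψ, map_add, map_one]; ring
      obtain ⟨m, hm⟩ : ∃ m, j = m + 2 := ⟨j - 2, by omega⟩
      rw [h1, add_comm (1 : A) t, add_pow, hm, Finset.sum_range_succ', Finset.sum_range_succ',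
        Polynomial.eval_finset_sum, show m + 2 - 1 = m + 1 by omega, mul_add, Finset.mul_sum, Finset.mul_sum]
      simp only [one_pow, mul_one, pow_zero, Nat.choose_zero_right, Nat.cast_one, zero_add, pow_one,
        Nat.choose_one_right, Polynomial.eval_mul, Polynomial.eval_C, Polynomial.eval_pow, Polynomial.eval_X]
      rw [show ∀ a b : A, a + b + 1 - 1 = b + a by intros; ring]
      congr 1
      · ring_nf
  obtain ⟨b, hb, hψt⟩ := hs
  -- fixed coefficients
  let F : Subring A := RingHom.eqLocus ψ (RingHom.id A)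
  have key : ∀ (d k : ℕ), N ≤ k + d → ∀ Q : Polynomial F,
      kill ψ j ((List.range d).map (k + ·)) (t ^ k * Polynomial.eval₂ F.subtype t Q) = 0 := by
    intro d
    induction d with
    | zero =>
      intro k hk Q
      simp only [List.range_zero, List.map_nil, kill]
      rw [show k = N + (k - N) by omega, pow_add, hN, zero_mul, zero_mul]
    | succ d ih =>
      intro k hk Q
      rw [List.range_succ_eq_map, List.map_cons, List.map_map]
      show kill ψ j _ (op ψ j (k + 0) _) = 0
      rw [Nat.add_zero]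
      obtain ⟨b', hb'⟩ : ∃ b' : Polynomial F, b'.map F.subtype = b :=
        (Polynomial.mem_lifts b).1 ((Polynomial.lifts_iff_coeff_lifts b).2 fun i => ⟨⟨b.coeff i, hb i⟩, rfl⟩)
      have he : Polynomial.eval₂ F.subtype t b' = b.eval t := by rw [← hb', Polynomial.eval_map]
      let s : Polynomial F := Polynomial.C (j : F) + Polynomial.X * b'
      have hs' : Polynomial.eval₂ F.subtype t s = (j : A) + t * b.eval t := by
        simp only [s, Polynomial.eval₂_add, Polynomial.eval₂_mul, Polynomial.eval₂_natCast, Polynomial.eval₂_X, he,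
          map_natCast]
      have hψQ : ψ (Polynomial.eval₂ F.subtype t Q) = Polynomial.eval₂ F.subtype t (Q.comp (Polynomial.X * s)) := by
        rw [Polynomial.hom_eval₂, Polynomial.eval₂_comp, Polynomial.eval₂_mul, Polynomial.eval₂_X, hs', ← hψt]
        congr 1
        exact RingHom.ext fun a => a.2
      let Q' : Polynomial F := s ^ k * Q.comp (Polynomial.X * s) - Polynomial.C ((j : F) ^ k) * Q
      have hop : op ψ j k (t ^ k * Polynomial.eval₂ F.subtype t Q) = t ^ k * Polynomial.eval₂ F.subtype t Q' := by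
        simp only [Q', Polynomial.eval₂_sub, Polynomial.eval₂_mul, Polynomial.eval₂_pow, Polynomial.eval₂_natCast, hs',
          ← hψQ, map_pow, map_natCast, op, map_mul, hψt]
        rw [mul_pow]
        ring
      have h0 : Q'.coeff 0 = 0 := by
        simp only [Q', s, Polynomial.coeff_zero_eq_eval_zero, Polynomial.eval_sub, Polynomial.eval_mul,
          Polynomial.eval_pow, Polynomial.eval_add, Polynomial.eval_C, Polynomial.eval_X, Polynomial.eval_comp,
          zero_mul, add_zero, sub_self]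
      obtain ⟨R, hR⟩ := Polynomial.X_dvd_iff.2 h0
      rw [hop, hR, Polynomial.eval₂_mul, Polynomial.eval₂_X, ← mul_assoc, ← pow_succ,
        show ((fun x => k + x) ∘ Nat.succ) = (fun x => k + 1 + x) from funext fun x => by simp; omega]
      exact ih (k + 1) (by omega) R
  obtain ⟨P', hP'⟩ : ∃ P' : Polynomial F, P'.map F.subtype = P :=
    (Polynomial.mem_lifts P).1 ((Polynomial.lifts_iff_coeff_lifts P).2 fun i => ⟨⟨P.coeff i, hP i⟩, rfl⟩)
  have h := key N k (by omega) P'
  rw [← Polynomial.eval_map, hP'] at h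
  refine mem_W_of_kill hj (s := ((List.range N).map (k + ·)).toFinset) (fun l hl => ?_) ?_
  · simp only [List.mem_toFinset, List.mem_map] at hl
    obtain ⟨i, -, rfl⟩ := hl
    omega
  · rwa [kill_perm (List.toFinset_toList ((List.nodup_range).map fun a b => by simp))]

/-- A nilpotent `u - 1` with `ψ u = u ^ j` has positive weight. -/
theorem sub_one_mem_W (hj : 2 ≤ j) {u : A} (hu : IsNilpotent (u - 1)) (hψ : ψ u = u ^ j) :
    u - 1 ∈ W ψ j 1 := by
  have h := pow_mul_mem_W (ψ := ψ) hj hu (by rw [add_sub_cancel]; exact hψ) 1 1 fun i => by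
    rw [Polynomial.coeff_one]; split_ifs <;> simp
  simpa using h

end Groth.L12.RR.Eigen
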