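import Groth.Agent.L12.RR.Weights
import Groth.Agent.L08.Lambda.FreeFil

/-!
# The shift of the rational gamma filtration by a map satisfying an Adams Riemann–Roch formula
-/

set_option autoImplicit false
set_option maxHeartbeats 800000
set_option linter.style.haveILetI false
set_option linter.unusedSectionVars false
set_option backward.isDefEq.respectTransparency false
set_option backward.isDefEq.respectTransparency.types false

universe u

open CategoryTheory CategoryTheory.Limits AlgebraicGeometry TopologicalSpace LambdaRing TensorProduct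

noncomputable section

namespace Groth.L12.RR

open Groth.L12.Kvb (KR toKR augHom posStructure)
open Groth.L12.KBunQ (kc Line lineSet)
open Groth.L08.Lambda (gammaSeries)
open Eigen (W Wt mem_Wt)

variable {X Y : Scheme.{u}} [CompactSpace X]

theorem lam_one_KR : ∀ k : ℕ, 2 ≤ k → LambdaOps.lam k (1 : KR X) = 0 := thin_of_line lineSet.one

variable [ConnectedSpace ↥X] {L : X.Modules} (hL : CohB1.IsAmple L)

include hL in
/-- After splitting, `γ^i (E - r)` is an elementary symmetric function of nilpotent elements. -/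
theorem exists_split_gamma {E : X.Modules} {r : ℕ} (hE : FlatMod.IsFinLocFreeOfRank r E) :
    ∃ (X' : Scheme.{u}) (_ : CompactSpace X') (g : KR X →+* KR X') (t : Multiset (KR X')),
      Groth.L12.KBunQ.Split X X' g ∧ (∀ a ∈ t, IsNilpotent a ∧ psi 2 (1 + a) = (1 + a) ^ 2) ∧
        ∀ i, g (gamma i (kc X E - (r : KR X))) = t.esymm i := by
  obtain ⟨X', hc, g, s, hg, hs, hcard, hsum⟩ := exists_split_sum r X E hE
  refine ⟨X', hc, g, s.map fun v => v - 1, hg, fun a ha => ?_, fun i => ?_⟩
  · obtain ⟨v, hv, rfl⟩ := Multiset.mem_map.1 ha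
    exact ⟨isNilpotent_line_sub_one hL hg hE hs hcard hsum hv,
      by rw [add_sub_cancel]; exact psi_of_thin (thin_of_line (hs v hv)) two_ne_zero⟩
  · rw [Groth.L08.Lambda.map_gamma g hg.lam, map_sub, map_natCast, hsum,
      show s.sum - (r : KR X') = (s.map fun v => v - 1).sum by
        rw [Multiset.sum_map_sub, Multiset.map_id', Multiset.map_const', Multiset.sum_replicate, hcard, nsmul_one],
      ← Groth.L08.Lambda.coeff_gammaSeries, Groth.L08.Lambda.gammaSeries_multiset_sum, Multiset.map_map,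
      Multiset.map_congr (g := fun v : KR X' => (1 : PowerSeries (KR X')) + PowerSeries.C (v - 1) * PowerSeries.X) rfl (fun (v : KR X') hv => show (gammaSeries ∘ fun v : KR X' => v - 1) v = _ from Groth.L08.Lambda.gammaSeries_sub_one lam_one_KR (thin_of_line (hs v hv))),
      show (s.map fun v => (1 : PowerSeries (KR X')) + PowerSeries.C (v - 1) * PowerSeries.X) =
        ((s.map fun v => v - 1).map fun t => 1 + PowerSeries.C t * PowerSeries.X) by rw [Multiset.map_map]; rfl,
      Groth.L22.Lambda.coeff_prod_one_add]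

include hL in
theorem isNilpotent_gamma_kc {E : X.Modules} {r : ℕ} (hE : FlatMod.IsFinLocFreeOfRank r E) {i : ℕ} (hi : 1 ≤ i) :
    IsNilpotent (gamma i (kc X E - (r : KR X))) := by
  obtain ⟨X', _, g, t, hg, ht, he⟩ := exists_split_gamma hL hE
  refine (IsNilpotent.map_iff hg.inj).1 ?_
  rw [he, ← mem_nilradical, Multiset.esymm]
  refine multiset_sum_mem _ fun z hz => ?_
  obtain ⟨w, hw, rfl⟩ := Multiset.mem_map.1 hz
  obtain ⟨hle, hcard⟩ := Multiset.mem_powersetCard.1 hw
  obtain ⟨a, ha⟩ := Multiset.exists_mem_of_ne_zero (show w ≠ 0 by rintro rfl; simp at hcard; omega)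
  exact Ideal.mem_of_dvd _ (Multiset.dvd_prod ha) (mem_nilradical.2 (ht a (Multiset.mem_of_le hle ha)).1)

include hL in
/-- `γ^i a` has augmentation zero. -/
theorem aug_gamma {a : KR X} (ha : augHom a = 0) {i : ℕ} (hi : 1 ≤ i) : augHom (gamma i a) = 0 := by
  obtain ⟨E, F, hE, hF, rfl⟩ := Groth.L12.KBunQ.exists_kc_sub a
  obtain ⟨r, hr⟩ := Groth.L18.KRRAmple.exists_rank hE
  obtain ⟨r', hr'⟩ := Groth.L18.KRRAmple.exists_rank hF
  rw [map_sub, show augHom (kc X E) = (r : ℤ) from Groth.L12.Kvb.augHom_cl hr,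
    show augHom (kc X F) = (r' : ℤ) from Groth.L12.Kvb.augHom_cl hr', sub_eq_zero] at ha
  obtain rfl : r = r' := by exact_mod_cast ha
  induction i using Nat.strong_induction_on with
  | _ k ih =>
    have h := congrArg augHom (Groth.L08.Lambda.gamma_add k (kc X E - kc X F) (kc X F - (r : KR X)))
    rw [sub_add_sub_cancel, Finset.sum_range_succ, Nat.sub_self, Groth.L08.Lambda.gamma_zero, mul_one,
      map_add, map_sum, IsReduced.eq_zero _ ((isNilpotent_gamma_kc hL hr hi).map augHom),
      Finset.sum_eq_zero fun l hl => by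
        have hl' := Finset.mem_range.1 hl
        rw [map_mul, IsReduced.eq_zero _ ((isNilpotent_gamma_kc hL hr' (by omega : 1 ≤ k - l)).map augHom), mul_zero],
      zero_add] at h
    exact h.symm

include hL in
/-- Products of `γ`'s of positive weight have augmentation zero. -/
theorem aug_prod_gamma (q : List (ℕ × KR X)) (hq : ∀ p ∈ q, augHom p.2 = 0) (hs : 1 ≤ (q.map Prod.fst).sum) :
    augHom (q.map fun p => gamma p.1 p.2).prod = 0 := by
  induction q with
  | nil => simp at hs
  | cons p q ih =>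
    simp only [List.map_cons, List.prod_cons, List.sum_cons, map_mul] at hs ⊢
    rcases Nat.eq_zero_or_pos p.1 with h | h
    · rw [ih (fun r hr => hq r (List.mem_cons_of_mem _ hr)) (by omega), mul_zero]
    · rw [show augHom (gamma p.1 p.2) = 0 from ?_, zero_mul]
      exact aug_gamma hL (hq p List.mem_cons_self) h

include hL in
/-- The elements `γ^i (E - r)` have weight at least `i`. -/
theorem incl_gamma_kc_mem {E : X.Modules} {r : ℕ} (hE : FlatMod.IsFinLocFreeOfRank r E) (i : ℕ) :
    incl (gamma i (kc X E - (r : KR X))) ∈ W (psiQ (X := X)) 2 i := by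
  obtain ⟨X', _, g, s, hg, hs, he⟩ := exists_split_gamma hL hE
  refine mem_W_of_split hg ?_
  rw [he, Multiset.esymm, map_multiset_sum, Multiset.map_map]
  refine multiset_sum_mem _ fun z hz => ?_
  obtain ⟨t, ht, rfl⟩ := Multiset.mem_map.1 hz
  obtain ⟨hle, hct⟩ := Multiset.mem_powersetCard.1 ht
  subst hct
  have hmem : ∀ a ∈ t, incl a ∈ W (psiQ (X := X')) 2 1 := fun a ha => by
    obtain ⟨hn, hpsi⟩ := hs a (Multiset.mem_of_le hle ha)
    have h := Eigen.sub_one_mem_W (ψ := psiQ (X := X')) (j := 2) le_rfl (u := incl (1 + a)) ?_ ?_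
    · rwa [map_add, map_one, add_sub_cancel_left] at h
    · rw [map_add, map_one, add_sub_cancel_left]; exact hn.map _
    · rw [psiQ_incl, hpsi, map_pow]
  clear hle ht hz
  show incl t.prod ∈ _
  induction t using Multiset.induction with
  | empty =>
    rw [Multiset.prod_zero, map_one, Multiset.card_zero]
    exact Eigen.one_mem_W
  | cons a t ih =>
    rw [Multiset.prod_cons, map_mul, Multiset.card_cons, add_comm]
    exact Eigen.mul_mem_W (hmem a (Multiset.mem_cons_self a t)) (ih fun b hb => hmem b (Multiset.mem_cons_of_mem hb))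

include hL in
/-- The elements `γ^i a` with `a` of augmentation zero have weight at least `i`. -/
theorem incl_gamma_mem {a : KR X} (ha : augHom a = 0) : ∀ i, incl (gamma i a) ∈ W (psiQ (X := X)) 2 i := by
  obtain ⟨E, F, hE, hF, rfl⟩ := Groth.L12.KBunQ.exists_kc_sub a
  obtain ⟨r, hr⟩ := Groth.L18.KRRAmple.exists_rank hE
  obtain ⟨r', hr'⟩ := Groth.L18.KRRAmple.exists_rank hF
  rw [map_sub, show augHom (kc X E) = (r : ℤ) from Groth.L12.Kvb.augHom_cl hr,
    show augHom (kc X F) = (r' : ℤ) from Groth.L12.Kvb.augHom_cl hr', sub_eq_zero] at ha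
  obtain rfl : r = r' := by exact_mod_cast ha
  intro i
  induction i using Nat.strong_induction_on with
  | _ k ih =>
    have h := Groth.L08.Lambda.gamma_add k (kc X E - kc X F) (kc X F - (r : KR X))
    rw [sub_add_sub_cancel, Finset.sum_range_succ, Nat.sub_self,
      show gamma 0 (kc X F - (r : KR X)) = 1 from if_pos rfl, mul_one] at h
    rw [show gamma k (kc X E - kc X F) = gamma k (kc X E - (r : KR X)) -
      ∑ l ∈ Finset.range k, gamma l (kc X E - kc X F) * gamma (k - l) (kc X F - (r : KR X)) by rw [h]; ring,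
      map_sub, map_sum]
    refine sub_mem (incl_gamma_kc_mem hL hr k) (Submodule.sum_mem _ fun l hl => ?_)
    have hl' := Finset.mem_range.1 hl
    rw [map_mul]
    have := Eigen.mul_mem_W (ih l hl') (incl_gamma_kc_mem hL hr' (k - l))
    rwa [Nat.add_sub_cancel' hl'.le] at this

include hL in
/-- The gamma filtration consists of elements of high weight. -/
theorem incl_mem_W {n : ℕ} {x : KR X} (hx : x ∈ gammaFiltration posStructure n) :
    incl x ∈ W (psiQ (X := X)) 2 n := by
  have key : ∀ (n : ℕ) (x : KR X), 0 < n → x ∈ gammaFiltration posStructure n → incl x ∈ W (psiQ (X := X)) 2 n := by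
    intro n x hn hx
    rw [gammaFiltration, if_neg (by omega)] at hx
    induction hx using AddSubgroup.closure_induction with
    | mem y hy =>
      obtain ⟨l, hl, hsum, rfl⟩ := hy
      refine Eigen.W_antitone hsum ?_
      clear hsum
      induction l with
      | nil => simp only [List.map_nil, List.prod_nil, List.sum_nil, map_one]; exact Eigen.one_mem_W
      | cons p l ih =>
        simp only [List.map_cons, List.prod_cons, List.sum_cons, map_mul]
        exact Eigen.mul_mem_W (incl_gamma_mem hL (hl p (List.mem_cons_self)) p.1)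
          (ih fun q hq => hl q (List.mem_cons_of_mem _ hq))
    | zero => rw [map_zero]; exact zero_mem _
    | add a b _ _ ha hb => rw [map_add]; exact add_mem ha hb
    | neg a _ ha => rw [map_neg]; exact neg_mem ha
  rcases Nat.eq_zero_or_pos n with rfl | hn
  · have h1 : x - ((augHom x : ℤ) : KR X) ∈ gammaFiltration (posStructure (X := X)) 1 := by
      rw [gammaFiltration, if_neg one_ne_zero]
      refine AddSubgroup.subset_closure ⟨[(1, x - ((augHom x : ℤ) : KR X))], fun p hp => ?_, le_rfl, ?_⟩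
      · rw [List.mem_singleton] at hp
        subst hp
        show augHom (x - ((augHom x : ℤ) : KR X)) = 0
        rw [map_sub, map_intCast]; simp
      · simp [gamma, Finset.sum_range_succ, LambdaOps.lam_one]
    rw [show x = (x - ((augHom x : ℤ) : KR X)) + ((augHom x : ℤ) : KR X) by ring, map_add, map_intCast]
    refine add_mem (Eigen.W_antitone (Nat.zero_le 1) (key 1 _ one_pos h1)) ?_
    have := (W (psiQ (X := X)) 2 0).smul_mem ((augHom x : ℤ) : ℚ) Eigen.one_mem_W
    rwa [Algebra.smul_def, map_intCast, mul_one] at this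
  · exact key n x hn hx

theorem psi_eq_adamsOp {k : ℕ} (hk : 1 ≤ k) (x : KR X) : psi k x = adamsOp k x := by
  obtain ⟨X', _, g, hg, hx⟩ := Groth.L12.KBunQ.exists_split_elem x
  apply hg.inj
  rw [map_psi g hg.lam, Groth.L08.Lambda.adamsOp_eq_gh hk, Groth.L08.Lambda.gh_map g (LambdaOps.lam_zero x)]
  simp only [hg.lam]
  rw [← Groth.L08.Lambda.adamsOp_eq_gh hk]
  have h : ∀ z : KR X', Groth.L12.KBunQ.InLines Line z → psiHom k z = Groth.L08.Lambda.adamsOpHom k z := fun z hz => by
    induction hz using AddSubgroup.closure_induction with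
    | mem u hu =>
      show psi k u = adamsOp k u
      rw [psi_of_thin (thin_of_line hu) (by omega), Groth.L08.Lambda.adamsOp_eq_gh hk]
      have := (Groth.L08.Lambda.newton_esymm ({u} : Multiset (KR X'))).eq_gh k hk
      rw [show (fun i => LambdaOps.lam i u) = fun i => ({u} : Multiset (KR X')).esymm i from funext fun i => by
        rw [← lam_sum_thin (s := {u}) (fun a ha => by rw [Multiset.mem_singleton.1 ha]; exact thin_of_line hu),
          Multiset.sum_singleton], ← this]
      simp
    | zero => rw [map_zero, map_zero]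
    | add a b _ _ ha hb => rw [map_add, map_add, ha, hb]
    | neg a _ ha => rw [map_neg, map_neg, ha]
  exact h _ hx

/-- The Adams operation on the graded pieces. -/
theorem psi_sub_mem {k : ℕ} (hk : 1 ≤ k) (n : ℕ) (x : KR X) (hx : x ∈ gammaFiltration posStructure n) :
    psi k x - (k : KR X) ^ n * x ∈ gammaFiltration (posStructure (X := X)) (n + 1) := by
  let i0 := binomialLambdaOps ℤ
  have hA := Groth.L12.KBunQ.isSpecial_KR (X := X)
  let P : PosStructure (KR X) := posStructure
  rw [Groth.L08.Lambda.gammaFiltration_eq, psi_eq_adamsOp hk]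
  let ε : KR X →ₐ[ℤ] ℤ := AlgHom.mk' P.aug (map_zsmul P.aug)
  have hx' : x ∈ Groth.L08.Lambda.genSpan ε (Set.univ : Set (KR X)) n := by
    rw [← Groth.L08.Lambda.gammaFil_restrictScalars_eq ε (AddSubgroup.closure_univ) n]
    exact (Groth.L08.Lambda.gammaFiltration_eq n x).1 hx
  clear hx
  let T : KR X →+ KR X := Groth.L08.Lambda.adamsOpHom k - AddMonoidHom.mulLeft ((k : KR X) ^ n)
  change T x ∈ gammaFil (P.aug : KR X →+* ℤ) (n + 1)
  induction hx' using Submodule.span_induction with
  | mem y hy =>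
    obtain ⟨l, -, hsum, rfl⟩ := hy
    set l' : List (ℕ × KR X) := l.map fun p => (p.1, p.2 - algebraMap ℤ (KR X) (ε p.2)) with hl'
    have e : (l.map fun p => gamma p.1 (p.2 - algebraMap ℤ (KR X) (ε p.2))).prod =
        (l'.map fun p => gamma p.1 p.2).prod := by rw [hl', List.map_map]; rfl
    have h0 : ∀ j, 0 < j → gamma j (0 : KR X) = 0 := fun j hj => Groth.L08.Lambda.gamma_zero_arg j hj
    have hp : Groth.L08.Lambda.HighWt Groth.L08.Lambda.gwt n (Groth.L08.Lambda.listPoly (d := 0) l') :=
      (Groth.L08.Lambda.highWt_listPoly l').mono Groth.L08.Lambda.gwt (by rw [hl', List.map_map]; exact hsum)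
    obtain ⟨q, h1, h2, h3⟩ := Groth.L08.Lambda.adams_core hA (Groth.L08.Lambda.listGens l' h0)
      (Groth.L08.Lambda.listPoly l') hp hk
    have hc : Groth.L08.Lambda.HighWt Groth.L08.Lambda.gwt (n + 1)
        (q - (k : MvPolynomial (Groth.L08.Lambda.GVar (Fin l'.length) 0) ℤ) ^ n * Groth.L08.Lambda.listPoly l') := by
      refine Groth.L08.Lambda.HighWt.succ Groth.L08.Lambda.gwt
        (h2.sub Groth.L08.Lambda.gwt (hp.const_mul Groth.L08.Lambda.gwt _)) ?_
      rw [Groth.L08.Lambda.comp_sub, h3, ← Nat.cast_pow, Groth.L08.Lambda.comp_natCast_mul, sub_self]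
    have := (Groth.L08.Lambda.gammaFilt (P.aug : KR X →+* ℤ)).ev_mem (Groth.L08.Lambda.listGens l' h0) (fun i j => ?_)
      (fun j hj => absurd hj (Nat.not_lt_zero j)) hc
    · rw [map_sub, map_mul, map_pow, map_natCast, h1, Groth.L08.Lambda.ev_listPoly, ← e] at this
      exact this
    · obtain ⟨p, -, hp'⟩ := List.mem_map.1 (show (l'.get i) ∈ l.map
        (fun p => (p.1, p.2 - algebraMap ℤ (KR X) (ε p.2))) from List.get_mem l' i)
      refine Groth.L08.Lambda.gamma_mem_gammaFil _ ?_ (j + 1)
      change P.aug (l'.get i).2 = 0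
      rw [← hp']
      simp [ε]
  | zero => rw [map_zero]; exact zero_mem _
  | add a b _ _ ha hb => rw [map_add]; exact add_mem ha hb
  | smul c a _ ha => rw [map_zsmul]; exact zsmul_mem ha c

/-- Membership in the rational gamma filtration. -/
def InQF (m : ℕ) (z : KQ X) : Prop :=
  ∃ (N : ℕ) (x : KR X), 1 ≤ N ∧ x ∈ gammaFiltration (posStructure (X := X)) m ∧ (N : KQ X) * z = incl x

theorem InQF.zero (m : ℕ) : InQF m (0 : KQ X) := ⟨1, 0, le_rfl, zero_mem _, by rw [mul_zero, map_zero]⟩

theorem InQF.mono {m m' : ℕ} (h : m ≤ m') {z : KQ X} : InQF m' z → InQF m z :=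
  fun ⟨N, x, hN, hx, e⟩ => ⟨N, x, hN, Groth.L08.Lambda.gammaFiltration_antitone _ h hx, e⟩

theorem InQF.add {m : ℕ} {a b : KQ X} (ha : InQF m a) (hb : InQF m b) : InQF m (a + b) := by
  obtain ⟨N, x, hN, hx, ex⟩ := ha
  obtain ⟨M, y, hM, hy, ey⟩ := hb
  refine ⟨N * M, (M : KR X) * x + (N : KR X) * y, Nat.mul_pos hN hM,
    add_mem (Groth.L08.Lambda.smul_mem_gammaFiltration _ _ _ hx) (Groth.L08.Lambda.smul_mem_gammaFiltration _ _ _ hy), ?_⟩
  rw [map_add, map_mul, map_mul, map_natCast, map_natCast, ← ex, ← ey]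
  push_cast
  ring

theorem InQF.natMul {m : ℕ} {a : KQ X} (ha : InQF m a) (c : ℕ) : InQF m ((c : KQ X) * a) := by
  obtain ⟨N, x, hN, hx, ex⟩ := ha
  refine ⟨N, (c : KR X) * x, hN, Groth.L08.Lambda.smul_mem_gammaFiltration _ _ _ hx, ?_⟩
  rw [map_mul, map_natCast, ← ex]; ring

theorem exists_natMul_mem {m : ℕ} {x : KR X} (h : InQF m (incl x)) :
    ∃ N : ℕ, 1 ≤ N ∧ (N : KR X) * x ∈ gammaFiltration (posStructure (X := X)) m := by
  obtain ⟨N, y, hN, hy, e⟩ := h
  rw [← map_natCast (incl (X := X)), ← map_mul, ← sub_eq_zero, ← map_sub] at e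
  obtain ⟨M, hM, hMe⟩ := torsion_of_incl_eq_zero e
  refine ⟨M * N, Nat.mul_pos hM hN, ?_⟩
  rw [mul_sub, sub_eq_zero] at hMe
  rw [Nat.cast_mul, mul_assoc, hMe]
  exact Groth.L08.Lambda.smul_mem_gammaFiltration _ _ _ hy

/-- Elements with `ψ z - 2^m z` deep enough lie in the filtration. -/
theorem inQF_of_psi {m : ℕ} {z : KQ X} (h : InQF (m + 1) (psiQ z - (2 : KQ X) ^ m * z)) : InQF m z := by
  obtain ⟨N, x, hN, hx⟩ := exists_incl z
  have h' : InQF (m + 1) (incl (psi 2 x - (2 : KR X) ^ m * x)) := by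
    rw [map_sub, map_mul, map_pow, map_ofNat, ← psiQ_incl, ← hx, map_mul, map_natCast]
    have := h.natMul N
    rwa [mul_sub, mul_left_comm] at this
  obtain ⟨N₀, hN₀, h₀⟩ := exists_natMul_mem h'
  suffices H : ∀ l ≤ m, ∃ M : ℕ, 1 ≤ M ∧ (M : KR X) * x ∈ gammaFiltration (posStructure (X := X)) l by
    obtain ⟨M, hM, hMx⟩ := H m le_rfl
    exact ⟨M * N, (M : KR X) * x, Nat.mul_pos hM hN, hMx, by rw [map_mul, map_natCast, ← hx]; push_cast; ring⟩
  intro l
  induction l with
  | zero => exact fun _ => ⟨1, le_rfl, by simp [gammaFiltration]⟩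
  | succ l ih =>
    intro hl
    obtain ⟨M, hM, hMx⟩ := ih (by omega)
    have h1 := psi_sub_mem (k := 2) (by omega) l _ hMx
    have h2 := Groth.L08.Lambda.smul_mem_gammaFiltration (posStructure (X := X)) (M : KR X) _
      (Groth.L08.Lambda.gammaFiltration_antitone _ (show l + 1 ≤ m + 1 by omega) h₀)
    have h3 := sub_mem (Groth.L08.Lambda.smul_mem_gammaFiltration (posStructure (X := X)) (N₀ : KR X) _ h1) h2
    rw [show psi 2 ((M : KR X) * x) = (M : KR X) * psi 2 x by
      rw [← nsmul_eq_mul, ← nsmul_eq_mul]; exact map_nsmul (psiHom 2) M x] at h3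
    refine ⟨N₀ * M * (2 ^ m - 2 ^ l), ?_, ?_⟩
    · have : 2 ^ l < 2 ^ m := Nat.pow_lt_pow_right (by omega) (by omega)
      exact Nat.mul_pos (Nat.mul_pos hN₀ hM) (by omega)
    convert h3 using 1
    have : 2 ^ l ≤ 2 ^ m := Nat.pow_le_pow_right (by omega) (by omega)
    push_cast [Nat.cast_sub this]
    ring

include hL in
theorem isNilpotent_of_Wt {l : ℕ} (hl : 1 ≤ l) {w : KQ X} (hw : w ∈ Wt (psiQ (X := X)) 2 l) : IsNilpotent w := by
  obtain ⟨N, x, hN, hx⟩ := exists_incl w
  have he : incl (psi 2 x - (2 : KR X) ^ l * x) = 0 := by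
    rw [map_sub, map_mul, map_pow, map_ofNat, ← psiQ_incl, ← hx, map_mul, map_natCast, mem_Wt.1 hw]
    push_cast; ring
  obtain ⟨M, hM, hMe⟩ := torsion_of_incl_eq_zero he
  have haug : augHom x = 0 := by
    have h1 := psi_sub_mem (k := 2) (by omega) 0 x (by simp [gammaFiltration])
    rw [pow_zero, one_mul] at h1
    have h2 : augHom (psi 2 x - x) = 0 := by
      have hle : gammaFiltration (posStructure (X := X)) 1 ≤ (augHom (X := X)).toAddMonoidHom.ker := by
        rw [gammaFiltration, if_neg one_ne_zero, AddSubgroup.closure_le]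
        rintro _ ⟨q, hq, hs, rfl⟩
        exact aug_prod_gamma hL q hq hs
      exact hle h1
    have h3 := congrArg augHom hMe
    simp only [map_mul, map_sub, map_pow, map_natCast, map_ofNat, map_zero] at h2 h3
    rcases mul_eq_zero.1 h3 with h | h
    · omega
    · have : (2 : ℤ) ^ l ≥ 2 := by
        calc (2 : ℤ) ^ l ≥ 2 ^ 1 := pow_le_pow_right₀ (by norm_num) hl
        _ = 2 := by norm_num
      have h4 : ((2 : ℤ) ^ l - 1) * augHom x = 0 := by linear_combination h2 - h
      rcases mul_eq_zero.1 h4 with h5 | h5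
      · omega
      · exact h5
  obtain ⟨c, hc⟩ := isNilpotent_aug_zero hL haug
  refine ⟨c, ?_⟩
  have h1 : (N : KQ X) ^ c * w ^ c = 0 := by rw [← mul_pow, hx, ← map_pow, hc, map_zero]
  have hu : IsUnit ((N : KQ X) ^ c) := by
    refine IsUnit.pow _ ?_
    rw [← map_natCast (algebraMap ℚ (KQ X))]
    exact ((Nat.cast_ne_zero.2 (by omega)).isUnit).map _
  exact hu.mul_right_eq_zero.1 h1

end Groth.L12.RR
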