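import Groth.Agent.L20.PnPic.Over
import Groth.Agent.L12.RR.Def.Retr
import Mathlib.AlgebraicGeometry.Geometrically.Connected

/-!
# Connectedness and quasi-projectivity of projective spaces over a base
-/

set_option autoImplicit false
set_option maxHeartbeats 400000
set_option linter.style.haveILetI false
set_option backward.isDefEq.respectTransparency false
set_option backward.isDefEq.respectTransparency.types false

universe u

open CategoryTheory CategoryTheory.Limits AlgebraicGeometry TopologicalSpace

noncomputable section

namespace Groth.L12.RR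

/-- Projective space over a connected scheme is connected. -/
theorem connectedSpace_PY (n : ℕ) (Y : Scheme.{u}) [ConnectedSpace ↥Y] :
    ConnectedSpace ↥(_root_.KRR.PY n Y) := by
  let p := CohB1.ProjSpaceOver.toBase n Y
  haveI : Smooth p := Groth.L16.ProjSpace.smooth_toBase (n := n) (S := Y)
  haveI := Groth.L20.PicSep.geometricallyConnected p
  exact GeometricallyConnected.connectedSpace (f := p) (S := Y) p.isOpenMap

/-- Projective space over a quasi-projective scheme is quasi-projective. -/
theorem isQProj_PY {S Y : Scheme.{u}} [IsAffine S] [IsNoetherian Y] (n : ℕ) {qY : Y ⟶ S}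
    (hqY : _root_.KRR.IsQProjOver qY) : _root_.KRR.IsQProjOver (_root_.KRR.pr n Y ≫ qY) := by
  haveI := lft_of_qproj hqY
  haveI := Groth.L12.KRes.isNoetherian_PY n Y
  haveI : IsProper (_root_.KRR.pr n Y) := Groth.L16.ProjSpace.isProper_toBase n Y
  haveI : QuasiCompact qY := inferInstance
  obtain ⟨L, hL⟩ := exists_ample_PY n (exists_ample_of_qproj hqY)
  obtain ⟨m, q, hq, -, hqg⟩ := Groth.L16.ProjEmb.exists_immersion (_root_.KRR.pr n Y ≫ qY) hL
  exact ⟨m, q, hq, hqg⟩

end Groth.L12.RR
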