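import Groth.Agent.L12.RR.ConormalRank
import Groth.Agent.L04.KSh.Exact
import Groth.Agent.L12.ExtSh.Exterior
import Groth.Agent.L12.KBunQ.Taut
import Groth.Agent.L12.VBLift.Small
import Groth.Agent.L12.Kvb.Ring
import Groth.Agent.L07.RegSpread
import Groth.Prelude.Def_KoszulSh
import Groth.Prelude.Def_KRR

/-!
# The Koszul resolution of a regular zero scheme
-/

set_option autoImplicit false
set_option maxHeartbeats 800000
set_option linter.style.haveILetI false
set_option linter.unusedSectionVars false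
set_option backward.isDefEq.respectTransparency false
set_option backward.isDefEq.respectTransparency.types false

universe v u

open CategoryTheory CategoryTheory.Limits AlgebraicGeometry TopologicalSpace Opposite RingTheory.Sequence exteriorPower

noncomputable section

namespace Groth.L12.RR

open Groth.L12.ExtSh (W wι wres wres_ι wres_smul W_induction wedgeMod wedgeEquiv extData)
open Groth.L18.Frame (rs ro rs_smul)
open Groth.L04.KSh (contr contr_mem contr_ιMulti appₗ appₗ_apply hom_ext_affine exists_hom_affine secForm_res)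

variable {Y : Scheme.{u}} {E : Y.Modules} (t : E ⟶ Coh.structureModule Y)

/-- The differential on exterior powers of sections. -/
def dW (p : ℕ) (U : Y.affineOpens) : W E (p + 1) U →ₗ[Γ(Y, U.1)] W E p U :=
  ((contr (KoszSh.secForm t U.1)).comp (Submodule.subtype _)).codRestrict _ fun z => by
    have h := contr_mem (KoszSh.secForm t U.1) ⊤ p (z := (z : ExteriorAlgebra Γ(Y, U.1) Γ(E, U.1)))
    simp only [Groth.L04.KSh.im, Submodule.map_top] at h
    exact h z.2

theorem dW_ι (p : ℕ) (U : Y.affineOpens) (e : Fin (p + 1) → Γ(E, U.1)) :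
    dW t p U (wι E (p + 1) U e) = KoszSh.dGen (KoszSh.secForm t U.1) p e :=
  Subtype.ext (contr_ιMulti (KoszSh.secForm t U.1) p e)

theorem dW_dW (p : ℕ) (U : Y.affineOpens) (z : W E (p + 1 + 1) U) : dW t p U (dW t (p + 1) U z) = 0 :=
  Subtype.ext (CliffordAlgebra.contractLeft_contractLeft _ _)

theorem dW_wres (p : ℕ) {U V : Y.affineOpens} (h : V.1 ≤ U.1) (z : W E (p + 1) U) :
    dW t p V (wres E (p + 1) h z) = wres E p h (dW t p U z) := by
  refine W_induction E (p + 1) (P := fun z => dW t p V (wres E (p + 1) h z) = wres E p h (dW t p U z))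
    (by simp) (fun a b ha hb => by simp only [map_add, ha, hb]) (fun r v => ?_) z
  rw [wres_smul, map_smul, map_smul, wres_smul, wres_ι, dW_ι, dW_ι]
  refine congrArg _ ?_
  unfold KoszSh.dGen
  rw [map_sum]
  refine Finset.sum_congr rfl fun i _ => ?_
  refine Eq.trans ?_ (wres_smul E p h _ _).symm
  refine Eq.trans ?_ (congrArg (ro h _ • ·) (wres_ι E p h _).symm)
  refine congrArg (· • _) ?_
  show _ = (Y.presheaf.map (homOfLE h).op).hom _
  rw [map_mul, map_pow, map_neg, map_one]
  exact congrArg (_ * ·) (secForm_res t h (v i))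

variable [Coh.IsQCoh E]

theorem exists_d (p : ℕ) : ∃ D : wedgeMod E (p + 1) ⟶ wedgeMod E p, ∀ (U : Y.affineOpens) (s : Γ(wedgeMod E (p + 1), U.1)),
    D.app U.1 s = (wedgeEquiv E p U).symm (dW t p U (wedgeEquiv E (p + 1) U s)) := by
  refine exists_hom_affine (M := wedgeMod E (p + 1)) (N := wedgeMod E p) (fun U => (wedgeEquiv E p U).symm.toLinearMap ∘ₗ dW t p U ∘ₗ (wedgeEquiv E (p + 1) U).toLinearMap) ?_
  intro U V h s
  show (wedgeEquiv E p V).symm (dW t p V (wedgeEquiv E (p + 1) V _)) = _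
  rw [show wedgeEquiv E (p + 1) V ((wedgeMod E (p + 1)).presheaf.map (homOfLE h).op s) =
    wres E (p + 1) h (wedgeEquiv E (p + 1) U s) from (extData E (p + 1)).eqv_rs h s, dW_wres]
  exact ((extData E p).rs_eqv_symm h _).symm

/-- The Koszul complex of a cosection of a quasi-coherent module exists. -/
theorem exists_cx : ∃ C : KoszSh.Cx E t, ∀ p, C.K.X p = wedgeMod E p := by
  choose D hD using exists_d t
  have hsq : ∀ p, D (p + 1) ≫ D p = 0 := fun p => hom_ext_affine fun U s => by
    rw [Scheme.Modules.Hom.comp_app]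
    show (D p).app U.1 ((D (p + 1)).app U.1 s) = 0
    rw [hD, hD, LinearEquiv.apply_symm_apply, dW_dW, map_zero]
  refine ⟨{ K := ChainComplex.of (fun p => wedgeMod E p) D hsq
            loc := fun p U => wedgeEquiv E p U
            loc_res := fun p U V h e =>
              ((extData E p).rs_eqv_symm h _).trans (congrArg ((extData E p).eqv V).symm (wres_ι E p h e))
            rule := fun p U e => ?_ }, fun p => rfl⟩
  have hd : (ChainComplex.of (fun p => wedgeMod E p) D hsq).d (p + 1) p = D p :=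
    ChainComplex.of_d (fun p => wedgeMod E p) D p
  rw [hd, hD]
  exact congrArg (wedgeEquiv E p U).symm ((congrArg (dW t p U) (LinearEquiv.apply_symm_apply _ _)).trans (dW_ι t p U e))

theorem exists_zero {C : KoszSh.Cx E t} : ∃ Ψ : C.K.X 0 ⟶ Coh.structureModule Y,
    ∀ (U : Y.affineOpens) (s : Γ(C.K.X 0, U.1)), Ψ.app U.1 s = zeroEquiv Γ(Y, U.1) Γ(E, U.1) (C.loc 0 U s) := by
  refine exists_hom_affine (M := C.K.X 0) (N := Coh.structureModule Y) (fun U => (zeroEquiv Γ(Y, U.1) Γ(E, U.1)).toLinearMap ∘ₗ (C.loc 0 U).toLinearMap) ?_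
  intro U V h s
  obtain ⟨w, rfl⟩ := (C.loc 0 U).symm.surjective s
  obtain ⟨r, rfl⟩ : ∃ r : Γ(Y, U.1), r • ιMulti Γ(Y, U.1) 0 (M := Γ(E, U.1)) Fin.elim0 = w :=
    ⟨zeroEquiv _ _ w, (zeroEquiv Γ(Y, U.1) Γ(E, U.1)).injective (by rw [map_smul, zeroEquiv_ιMulti, smul_eq_mul, mul_one])⟩
  show zeroEquiv Γ(Y, V.1) Γ(E, V.1) (C.loc 0 V _) = Y.presheaf.map (homOfLE h).op (zeroEquiv _ _ (C.loc 0 U _))
  rw [map_smul, Scheme.Modules.map_smul, map_smul, LinearEquiv.map_smul (C.loc 0 U), map_smul,
    LinearEquiv.apply_symm_apply]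
  rw [show (C.K.X 0).presheaf.map (homOfLE h).op ((C.loc 0 U).symm (ιMulti _ 0 Fin.elim0)) = _ from C.loc_res 0 U V h Fin.elim0,
    LinearEquiv.apply_symm_apply]
  simp only [map_smul, zeroEquiv_ιMulti, smul_eq_mul, mul_one]

end Groth.L12.RR
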