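import Groth.Agent.L12.RR.Koszul

/-!
# The Koszul complex resolves a regular zero scheme
-/

set_option autoImplicit false
set_option maxHeartbeats 1600000
set_option linter.style.haveILetI false
set_option linter.unusedSectionVars false
set_option backward.isDefEq.respectTransparency false
set_option backward.isDefEq.respectTransparency.types false

universe v u

open CategoryTheory CategoryTheory.Limits AlgebraicGeometry TopologicalSpace Opposite RingTheory.Sequence exteriorPower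

noncomputable section

namespace Groth.L12.RR

open Groth.L04.KSh (appₗ appₗ_apply hom_ext_affine exists_hom_affine secForm_res)
open Groth.L12.FinCov (IsBasisOn lc rM rM_self)

/-- A sequence beginning with a unit is weakly regular. -/
theorem isWeaklyRegular_cons_of_isUnit {R : Type*} [CommRing R] {r : R} (hr : IsUnit r) (l : List R) :
    IsWeaklyRegular R (r :: l) := by
  rw [isWeaklyRegular_cons_iff]
  refine ⟨hr.isSMulRegular R, ?_⟩
  have h : Subsingleton (QuotSMulTop r R) := by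
    refine Submodule.Quotient.subsingleton_iff.2 (eq_top_iff.2 fun x _ => ?_)
    obtain ⟨s, hs⟩ := hr.exists_left_inv
    exact ⟨s * x, trivial, by
      show r * (s * x) = x
      rw [← mul_assoc, mul_comm r s, hs, one_mul]⟩
  exact ⟨fun i _ a b _ => Subsingleton.elim a b⟩

variable {X Y : Scheme.{u}} {E : Y.Modules}

/-- The basis of sections given by a frame. -/
theorem exists_module_basis {n : ℕ} {W : Y.Opens} {b : Fin n → Γ(E, W)} (hb : IsBasisOn E W b) {V : Y.Opens}
    (h : V ≤ W) : ∃ B : Module.Basis (Fin n) Γ(Y, V) Γ(E, V), ∀ k, B k = rM E h (b k) := by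
  let lcₗ : (Fin n → Γ(Y, V)) →ₗ[Γ(Y, V)] Γ(E, V) :=
    { toFun := lc E b h
      map_add' := fun r r' => by simp [lc, add_smul, Finset.sum_add_distrib]
      map_smul' := fun r r' => by simp [lc, Finset.smul_sum, smul_smul] }
  refine ⟨Module.Basis.ofEquivFun (LinearEquiv.ofBijective lcₗ (hb V h)).symm, fun k => ?_⟩
  rw [Module.Basis.coe_ofEquivFun]
  show lc E b h (Pi.single k 1) = _
  rw [lc, Finset.sum_eq_single k (fun j _ hj => by rw [Pi.single_eq_of_ne hj, zero_smul])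
    (fun hk => (hk (Finset.mem_univ k)).elim), Pi.single_eq_same, one_smul]

variable (t : E ⟶ Coh.structureModule Y)

theorem span_secForm {U : Y.Opens} {n : ℕ} (B : Module.Basis (Fin n) Γ(Y, U) Γ(E, U)) :
    Ideal.span {a : Γ(Y, U) | ∃ s : Γ(E, U), (t.app U) s = a} =
      Ideal.span (Set.range fun k => KoszSh.secForm t U (B k)) := by
  refine le_antisymm (Ideal.span_le.2 ?_) (Ideal.span_le.2 ?_)
  · rintro a ⟨s, rfl⟩
    show KoszSh.secForm t U s ∈ Ideal.span _
    rw [← B.sum_repr s, map_sum]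
    exact Ideal.sum_mem _ fun k _ => by
      rw [map_smul, smul_eq_mul]
      exact Ideal.mul_mem_left _ _ (Ideal.subset_span ⟨k, rfl⟩)
  · rintro a ⟨k, rfl⟩
    exact Ideal.subset_span ⟨B k, rfl⟩

variable (i : X ⟶ Y) [IsClosedImmersion i]

theorem exists_regular_basis [IsLocallyNoetherian Y] {d : ℕ} (hE : FlatMod.IsFinLocFreeOfRank d E)
    (ht : ∀ U : Y.affineOpens, i.ker.ideal U = Ideal.span {a : Γ(Y, U.1) | ∃ s : Γ(E, U.1), (t.app U.1) s = a})
    (hi : Mor2.IsRegularClosedImmersion i) (hci : FlatMod.IsFinLocFreeOfRank d (Omega.conormal i)) (x : Y) :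
    ∃ U : Y.affineOpens, x ∈ U.1 ∧ ∃ B : Module.Basis (Fin d) Γ(Y, U.1) Γ(E, U.1),
      IsWeaklyRegular Γ(Y, U.1) (List.ofFn fun k => KoszSh.secForm t U.1 (B k)) := by
  by_cases hx : x ∈ Set.range i
  · obtain ⟨z, rfl⟩ := hx
    obtain ⟨U, b, hU, hz, -, hb⟩ := Groth.L12.FinCov.exists_basisOn_of_rank hE (i z) ⊤ trivial
    obtain ⟨B, hB⟩ := exists_module_basis hb (le_refl U)
    obtain ⟨rs, hlen, hrs, hk⟩ := exists_regular_stalk_rank i hi hci z
    haveI : IsNoetherianRing Γ(Y, U) := IsLocallyNoetherian.component_noetherian ⟨U, hU⟩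
    letI := Y.presheaf.algebra_section_stalk ⟨i z, hz⟩
    haveI := hU.isLocalization_stalk ⟨i z, hz⟩
    let g : Fin d → Γ(Y, U) := fun k => KoszSh.secForm t U (B k)
    have hg : Ideal.span (Set.range fun k => algebraMap Γ(Y, U) (Y.presheaf.stalk (i z)) (g k)) = Ideal.ofList rs := by
      rw [← hk, Groth.L20.Infinitesimal.ker_stalkMap, Groth.L20.SeeNormal.sI_eq i.ker ⟨U, hU⟩ hz, ht ⟨U, hU⟩,
        span_secForm t B, Ideal.map_span, ← Set.range_comp]
      rfl
    have hreg : IsWeaklyRegular (Y.presheaf.stalk (i z)) ((List.ofFn g).map (algebraMap Γ(Y, U) (Y.presheaf.stalk (i z)))) := by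
      rw [List.map_ofFn]
      exact isWeaklyRegular_of_span_eq hrs hlen _ hg
    obtain ⟨a, ha, hT⟩ := Groth.L07.RegSeq.exists_away_isWeaklyRegular (List.ofFn g)
      (hU.primeIdealOf ⟨i z, hz⟩).asIdeal (Y.presheaf.stalk (i z)) hreg
    obtain ⟨B', hB'⟩ := exists_module_basis hb (Y.basicOpen_le a)
    refine ⟨⟨Y.basicOpen a, hU.basicOpen a⟩, ?_, B', ?_⟩
    · show i z ∈ Y.basicOpen a
      rw [Scheme.mem_basicOpen Y a (i z) hz]
      exact IsLocalization.map_units (Y.presheaf.stalk (i z)) (⟨a, ha⟩ : (hU.primeIdealOf ⟨i z, hz⟩).asIdeal.primeCompl)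
    letI : Algebra Γ(Y, U) Γ(Y, Y.basicOpen a) := (Y.presheaf.map (homOfLE (Y.basicOpen_le a)).op).hom.toAlgebra
    haveI := hU.isLocalization_basicOpen a
    have h := hT Γ(Y, Y.basicOpen a) a inferInstance (dvd_refl a)
    rw [List.map_ofFn] at h
    convert h using 3 with k
    rw [Function.comp_apply, hB']
    refine (secForm_res t (Y.basicOpen_le a) (b k)).trans ?_
    show _ = (Y.presheaf.map (homOfLE (Y.basicOpen_le a)).op) (g k)
    simp only [g, hB, rM_self]
  · obtain ⟨U, b, hU, hxU, hUO, hb⟩ := Groth.L12.FinCov.exists_basisOn_of_rank hE x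
      ⟨(Set.range i)ᶜ, i.isClosedEmbedding.isClosed_range.isOpen_compl⟩ hx
    obtain ⟨B, hB⟩ := exists_module_basis hb (le_refl U)
    have htop : i.ker.ideal ⟨U, hU⟩ = ⊤ := by
      rw [Ideal.eq_top_iff_one, Scheme.Hom.ker_apply, RingHom.mem_ker, map_one]
      have he : i ⁻¹ᵁ U = ⊥ := eq_bot_iff.2 fun y hy => hUO hy ⟨y, rfl⟩
      show (1 : Γ(X, i ⁻¹ᵁ U)) = 0
      rw [he]
      exact Subsingleton.elim _ _
    rw [ht ⟨U, hU⟩, span_secForm t B] at htop
    obtain ⟨k, hk⟩ : ∃ k, KoszSh.secForm t U (B k) ∉ (hU.primeIdealOf ⟨x, hxU⟩).asIdeal := by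
      by_contra hcon
      push Not at hcon
      refine (hU.primeIdealOf ⟨x, hxU⟩).isPrime.ne_top (eq_top_iff.2 (htop.ge.trans (Ideal.span_le.2 ?_)))
      rintro a ⟨k, rfl⟩
      exact hcon k
    let a := KoszSh.secForm t U (B k)
    obtain ⟨B', hB'⟩ := exists_module_basis hb (Y.basicOpen_le a)
    letI := Y.presheaf.algebra_section_stalk ⟨x, hxU⟩
    haveI := hU.isLocalization_stalk ⟨x, hxU⟩
    obtain _ | m := d
    · exact k.elim0
    refine ⟨⟨Y.basicOpen a, hU.basicOpen a⟩, ?_, B'.reindex (Equiv.swap 0 k), ?_⟩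
    · show x ∈ Y.basicOpen a
      rw [Scheme.mem_basicOpen Y a x hxU]
      exact IsLocalization.map_units (Y.presheaf.stalk x) (⟨a, hk⟩ : (hU.primeIdealOf ⟨x, hxU⟩).asIdeal.primeCompl)
    rw [List.ofFn_succ]
    refine isWeaklyRegular_cons_of_isUnit ?_ _
    rw [Module.Basis.reindex_apply, Equiv.symm_swap, Equiv.swap_apply_left, hB']
    refine (secForm_res t (Y.basicOpen_le a) (b k)).symm ▸ ?_
    have : KoszSh.secForm t U (b k) = a := by simp only [a, hB, rM_self]
    rw [this]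
    exact Y.toRingedSpace.isUnit_res_basicOpen a

variable [Coh.IsQCoh E] {t}

/-- The Koszul complex augmented to the structure sheaf of the zero scheme. -/
theorem exists_resolution [IsLocallyNoetherian Y] {d : ℕ} (hE : FlatMod.IsFinLocFreeOfRank d E)
    (ht : ∀ U : Y.affineOpens, i.ker.ideal U = Ideal.span {a : Γ(Y, U.1) | ∃ s : Γ(E, U.1), (t.app U.1) s = a})
    (hi : Mor2.IsRegularClosedImmersion i) (hci : FlatMod.IsFinLocFreeOfRank d (Omega.conormal i)) :
    ∃ (L : ChainComplex Y.Modules ℕ)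
      (π : L ⟶ (ChainComplex.single₀ Y.Modules).obj ((Scheme.Modules.pushforward i).obj (Coh.structureModule X))),
      KRR.IsLFRes ((Scheme.Modules.pushforward i).obj (Coh.structureModule X)) d L π ∧
      ∀ p, ExtPow.IsExtPow p E (L.X p) ∧ FlatMod.IsFinLocFree (L.X p) := by
  obtain ⟨C, hC⟩ := exists_cx t
  obtain ⟨Ψ, hΨ⟩ := exists_zero t (C := C)
  have hex : ∀ p, IsZero (C.K.homology (p + 1)) := fun p =>
    Groth.L04.KSh.isZero_homology (Groth.L18.KRRAmple.isFinLocFree_of_rank hE)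
      (exists_regular_basis t i hE ht hi hci) C p
  have hlf : ∀ p, FlatMod.IsFinLocFree (C.K.X p) := fun p =>
    Groth.L18.KRRAmple.isFinLocFree_of_rank (Groth.L12.ExtSh.isFinLocFreeOfRank_of_isExtPow hE (C.isExtPow p))
  let ε := Ψ ≫ ClSub.unitToPush i
  have happ : ∀ (U : Y.affineOpens) (s : Γ(C.K.X 0, U.1)),
      ε.app U.1 s = i.app U.1 (zeroEquiv Γ(Y, U.1) Γ(E, U.1) (C.loc 0 U s)) := fun U s => by
    show (ClSub.unitToPush i).app U.1 (Ψ.app U.1 s) = _
    rw [hΨ]
    rfl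
  have hd : ∀ (U : Y.affineOpens) (e : Fin 1 → Γ(E, U.1)),
      zeroEquiv Γ(Y, U.1) Γ(E, U.1) (C.loc 0 U ((C.K.d 1 0).app U.1 ((C.loc 1 U).symm (ιMulti _ 1 e)))) =
        KoszSh.secForm t U.1 (e 0) := fun U e => by
    rw [C.rule 0 U e, LinearEquiv.apply_symm_apply, KoszSh.dGen, map_sum, Fin.sum_univ_one, map_smul,
      zeroEquiv_ιMulti, smul_eq_mul, mul_one]
    simp
  have hker : ∀ (U : Y.affineOpens) (a : Γ(Y, U.1)), a ∈ i.ker.ideal U ↔ i.app U.1 a = 0 := fun U a => by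
    rw [Scheme.Hom.ker_apply]
    exact RingHom.mem_ker
  have hw : C.K.d 1 0 ≫ ε = 0 := by
    refine hom_ext_affine fun U s => ?_
    have : (appₗ ε U.1).comp (appₗ (C.K.d 1 0) U.1) = 0 := by
      refine Groth.L04.KSh.ext_ιMulti C 1 U fun e => ?_
      rw [LinearMap.comp_apply, LinearMap.zero_apply, appₗ_apply, appₗ_apply, happ, hd]
      refine (hker U _).1 ?_
      rw [ht U]
      exact Ideal.subset_span ⟨e 0, rfl⟩
    exact LinearMap.congr_fun this s
  haveI : Epi Ψ := Groth.L17.Serre.epi_of_locally_surjective _ fun U x hx s => by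
    obtain ⟨V, hV, hxV, hVU⟩ := exists_isAffineOpen_mem_and_subset (x := x) (U := U) hx
    let s' : Γ(Y, V) := Y.presheaf.map (homOfLE hVU).op s
    refine ⟨V, hVU, hxV, (C.loc 0 ⟨V, hV⟩).symm ((zeroEquiv Γ(Y, V) Γ(E, V)).symm s'), ?_⟩
    refine (hΨ ⟨V, hV⟩ _).trans ?_
    rw [LinearEquiv.apply_symm_apply, LinearEquiv.apply_symm_apply]
    rfl
  haveI : Epi (ClSub.unitToPush i) := Groth.L12.VBLift.epi_unitToPush i
  have hepi : Epi ε := epi_comp _ _
  have hsurj : ∀ (U : Y.affineOpens) (z : Γ(C.K.X 0, U.1)), ε.app U.1 z = 0 →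
      ∃ y, (C.K.d 1 0).app U.1 y = z := by
    intro U z hz
    replace hz := (hker U _).2 ((happ U z).symm.trans hz)
    rw [ht U] at hz
    have hr : Ideal.span {a : Γ(Y, U.1) | ∃ s : Γ(E, U.1), (t.app U.1) s = a} = LinearMap.range (KoszSh.secForm t U.1) :=
      le_antisymm (Ideal.span_le.2 fun a ⟨s, hs⟩ => ⟨s, hs⟩) (fun a ⟨s, hs⟩ => Ideal.subset_span ⟨s, hs⟩)
    rw [hr] at hz
    obtain ⟨e, he⟩ := hz
    refine ⟨(C.loc 1 U).symm (ιMulti _ 1 fun _ => e), (C.loc 0 U).injective ((zeroEquiv _ _).injective ?_)⟩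
    rw [hd]
    exact he
  have hex0 : (ShortComplex.mk (C.K.d 1 0) ε hw).Exact := by
    rw [Groth.L21.Mod.exact_iff_stalk]
    intro x
    rw [ShortComplex.ab_exact_iff]
    intro w hw'
    obtain ⟨W, hxW, z, rfl⟩ := (C.K.X 0).presheaf.germ_exist w
    change (Groth.L21.Mod.stalkF Y x).map ε _ = 0 at hw'
    rw [Groth.L21.Mod.stalkF_map_germ] at hw'
    obtain ⟨W', hxW', i₁, i₂, heq⟩ := TopCat.Presheaf.germ_eq
      ((Scheme.Modules.pushforward i).obj (Coh.structureModule X)).presheaf x hxW hxW (ε.app W z) 0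
      (hw'.trans (map_zero _).symm)
    obtain ⟨V, hV, hxV, hVW⟩ := exists_isAffineOpen_mem_and_subset (x := x) (U := W') hxW'
    have hle : V ≤ W := le_trans hVW i₁.le
    obtain ⟨y, hy⟩ := hsurj ⟨V, hV⟩ ((C.K.X 0).presheaf.map (homOfLE hle).op z) (by
      refine (ConcreteCategory.congr_hom (ε.mapPresheaf.naturality (homOfLE hle).op) z).trans ?_
      have h0 := congrArg (((Scheme.Modules.pushforward i).obj (Coh.structureModule X)).presheaf.map (homOfLE hVW).op) heq
      rw [map_zero, map_zero, ← ConcreteCategory.comp_apply, ← Functor.map_comp] at h0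
      exact h0)
    refine ⟨(C.K.X 1).presheaf.germ V x hxV y, ?_⟩
    change (Groth.L21.Mod.stalkF Y x).map (C.K.d 1 0) _ = _
    rw [Groth.L21.Mod.stalkF_map_germ, hy]
    exact TopCat.Presheaf.germ_res_apply _ (homOfLE hle) x hxV z
  refine ⟨C.K, (ChainComplex.toSingle₀Equiv C.K _).symm ⟨ε, hw⟩,
    ⟨hlf, fun p hp => ?_, ⟨fun p => ?_⟩⟩, fun p => ⟨C.isExtPow p, hlf p⟩⟩
  · rw [hC]
    exact Groth.L12.KBunQ.isZero_wedge_of_rank hE hp
  cases p with
  | zero =>
    rw [ChainComplex.quasiIsoAt₀_iff, ShortComplex.quasiIso_iff_of_zeros' _ (C.K.shape 0 0 (by simp)) rfl rfl]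
    exact (ShortComplex.exact_and_epi_g_iff_of_iso (S₂ := ShortComplex.mk (C.K.d 1 0) ε hw)
      (ShortComplex.isoMk (Iso.refl _) (Iso.refl _) (Iso.refl _) (by simp) (by simp))).2 ⟨hex0, hepi⟩
  | succ p =>
    rw [quasiIsoAt_iff_exactAt' _ _ (ChainComplex.exactAt_succ_single_obj _ _)]
    exact (HomologicalComplex.exactAt_iff_isZero_homology _ _).2 (hex p)

end Groth.L12.RR
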