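import Groth.Agent.L22.Adams
import Groth.Prelude.Def_KRR

/-!
# Adams operations without a positive structure
-/

set_option autoImplicit false

universe v w

open LambdaRing Finset Groth.L22.Lambda

noncomputable section

namespace Groth.L12.RR

variable {K : Type v} [CommRing K] [LambdaOps K]

/-- The series of Adams operations, without constant term. -/
def psiSeries (x : K) : PowerSeries K :=
  -(PowerSeries.X * PowerSeries.derivative K (PowerSeries.rescale (-1 : K) (lamSeries x)) *
    (PowerSeries.rescale (-1 : K) (lamSeries x)).invOfUnit 1)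

/-- The Adams operation (for positive exponents). -/
def psi (j : ℕ) (x : K) : K := PowerSeries.coeff j (psiSeries x)

theorem adams_eq_psi (P : PosStructure K) {j : ℕ} (hj : j ≠ 0) (x : K) : adams P j x = psi j x := by
  rw [adams, adamsSeries, psi, psiSeries, map_sub, PowerSeries.coeff_C, if_neg hj, map_neg, zero_sub]

theorem psi_add (j : ℕ) (x y : K) : psi j (x + y) = psi j x + psi j y := by
  unfold psi
  rw [← map_add]
  refine congrArg _ ?_
  unfold psiSeries
  rw [lamSeries_add, map_mul, Derivation.leibniz]
  set a := PowerSeries.rescale (-1 : K) (lamSeries x)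
  set b := PowerSeries.rescale (-1 : K) (lamSeries y)
  have ha : PowerSeries.constantCoeff a = ((1 : Kˣ) : K) := by
    rw [Units.val_one]; exact constantCoeff_rescale_lamSeries x
  have hb : PowerSeries.constantCoeff b = ((1 : Kˣ) : K) := by
    rw [Units.val_one]; exact constantCoeff_rescale_lamSeries y
  have hab : PowerSeries.constantCoeff (a * b) = ((1 : Kˣ) : K) := by
    rw [map_mul, ha, hb, Units.val_one, one_mul]
  have A := PowerSeries.mul_invOfUnit a 1 ha
  have B := PowerSeries.mul_invOfUnit b 1 hb
  have AB := PowerSeries.mul_invOfUnit (a * b) 1 hab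
  have inv : PowerSeries.invOfUnit (a * b) 1 =
      PowerSeries.invOfUnit a 1 * PowerSeries.invOfUnit b 1 := by
    linear_combination
      (PowerSeries.invOfUnit a 1 * PowerSeries.invOfUnit b 1) * AB -
        (PowerSeries.invOfUnit (a * b) 1) * (b * PowerSeries.invOfUnit b 1) * A -
        (PowerSeries.invOfUnit (a * b) 1) * B
  simp only [smul_eq_mul, inv]
  linear_combination (-PowerSeries.X * (PowerSeries.derivative K b) * PowerSeries.invOfUnit b 1) * A +
    (-PowerSeries.X * (PowerSeries.derivative K a) * PowerSeries.invOfUnit a 1) * B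

/-- The Adams operation as an additive map. -/
def psiHom (j : ℕ) : K →+ K := AddMonoidHom.mk' (psi j) (psi_add j)

theorem psi_zero (j : ℕ) : psi j (0 : K) = 0 := (psiHom j).map_zero

theorem psi_neg (j : ℕ) (x : K) : psi j (-x) = -psi j x := (psiHom j).map_neg x

theorem psi_sub (j : ℕ) (x y : K) : psi j (x - y) = psi j x - psi j y := (psiHom j).map_sub x y

theorem psi_sum {ι : Type*} (s : Finset ι) (f : ι → K) (j : ℕ) :
    psi j (∑ i ∈ s, f i) = ∑ i ∈ s, psi j (f i) := map_sum (psiHom j) f s

/-- An element all of whose higher exterior powers vanish. -/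
def Thin (u : K) : Prop := ∀ n, 2 ≤ n → LambdaOps.lam n u = 0

theorem lamSeries_of_thin {u : K} (hu : Thin u) : lamSeries u = 1 + PowerSeries.C u * PowerSeries.X := by
  ext k
  rw [coeff_lamSeries, coeff_one_add_C_mul_X]
  rcases k with - | - | k
  · simp [LambdaOps.lam_zero]
  · simp [LambdaOps.lam_one]
  · simpa using hu (k + 2) (by omega)

theorem psi_of_thin {u : K} (hu : Thin u) {j : ℕ} (hj : j ≠ 0) : psi j u = u ^ j := by
  let g : PowerSeries K := PowerSeries.mk fun i => u ^ i
  have hl : PowerSeries.rescale (-1 : K) (lamSeries u) = 1 - PowerSeries.C u * PowerSeries.X := by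
    ext k
    rw [PowerSeries.coeff_rescale, coeff_lamSeries, ← coeff_lamSeries k u,
      lamSeries_of_thin hu, coeff_one_add_C_mul_X, map_sub, PowerSeries.coeff_C_mul,
      PowerSeries.coeff_X, PowerSeries.coeff_one]
    rcases k with - | - | k <;> simp
  have hg : (1 - PowerSeries.C u * PowerSeries.X) * g = 1 := by
    ext k
    rw [sub_mul, one_mul, mul_assoc, map_sub, PowerSeries.coeff_C_mul]
    rcases k with - | k
    · simp [g]
    · rw [PowerSeries.coeff_succ_X_mul]
      simp [g, pow_succ, mul_comm, PowerSeries.coeff_one]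
  have hinv : (1 - PowerSeries.C u * PowerSeries.X).invOfUnit 1 = g := by
    have h := PowerSeries.invOfUnit_mul (1 - PowerSeries.C u * PowerSeries.X) 1 (by simp)
    linear_combination g * h -
      ((1 - PowerSeries.C u * PowerSeries.X).invOfUnit 1) * hg
  have hs : psiSeries u = g - 1 := by
    rw [psiSeries, hl, hinv]
    simp only [map_sub, Derivation.leibniz, smul_eq_mul, PowerSeries.derivative_C,
      PowerSeries.derivative_X, Derivation.map_one_eq_zero]
    linear_combination -hg
  rw [psi, hs, map_sub, PowerSeries.coeff_one, if_neg hj, sub_zero]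
  exact PowerSeries.coeff_mk _ _

theorem psi_one {j : ℕ} (hj : j ≠ 0) (h : Thin (1 : K)) : psi j (1 : K) = 1 := by
  rw [psi_of_thin h hj, one_pow]

variable {L : Type w} [CommRing L] [LambdaOps L]

theorem map_psi (f : K →+* L) (hf : ∀ i x, f (LambdaOps.lam i x) = LambdaOps.lam i (f x)) (j : ℕ) (x : K) :
    f (psi j x) = psi j (f x) := by
  have hlam : PowerSeries.map f (PowerSeries.rescale (-1 : K) (lamSeries x)) =
      PowerSeries.rescale (-1 : L) (lamSeries (f x)) := by
    ext k
    simp [PowerSeries.coeff_rescale, coeff_lamSeries, hf k x]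
  have hder : ∀ a : PowerSeries K, PowerSeries.map f (PowerSeries.derivative K a) =
      PowerSeries.derivative L (PowerSeries.map f a) := by
    intro a
    ext k
    simp [PowerSeries.coeff_derivative]
  have hinv : PowerSeries.map f ((PowerSeries.rescale (-1 : K) (lamSeries x)).invOfUnit 1) =
      (PowerSeries.rescale (-1 : L) (lamSeries (f x))).invOfUnit 1 := by
    have a := congrArg (PowerSeries.map f)
      (PowerSeries.mul_invOfUnit (PowerSeries.rescale (-1 : K) (lamSeries x)) 1
        (by rw [constantCoeff_rescale_lamSeries, Units.val_one]))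
    rw [map_mul, map_one, hlam] at a
    have b := PowerSeries.mul_invOfUnit (PowerSeries.rescale (-1 : L) (lamSeries (f x))) 1
        (by rw [constantCoeff_rescale_lamSeries, Units.val_one])
    exact left_inv_eq_right_inv (by rw [mul_comm]; exact a) b
  have key : PowerSeries.map f (psiSeries x) = psiSeries (f x) := by
    unfold psiSeries
    rw [map_neg, map_mul, map_mul, PowerSeries.map_X, hder, hlam, hinv]
  rw [psi, psi, ← key, PowerSeries.coeff_map]

/-- The cannibalistic class for a given rank. -/
def theta (j d : ℕ) (x : K) : K :=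
  MvPolynomial.aeval (fun i : Fin d => LambdaOps.lam (i.1 + 1) x) (_root_.KRR.bottPoly j d)

theorem bott_eq_theta (P : PosStructure K) (j : ℕ) {x : K} {d : ℕ} (h : P.aug x = d) :
    _root_.KRR.bott P j x = theta j d x := by
  have : (P.aug x).toNat = d := by rw [h, Int.toNat_natCast]
  unfold _root_.KRR.bott theta
  rw [this]

theorem map_theta (f : K →+* L) (hf : ∀ i x, f (LambdaOps.lam i x) = LambdaOps.lam i (f x)) (j d : ℕ) (x : K) :
    f (theta j d x) = theta j d (f x) := by
  refine (MvPolynomial.comp_aeval_apply (R := ℤ) (f := fun i : Fin d => LambdaOps.lam (i.1 + 1) x) f.toIntAlgHom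
    (_root_.KRR.bottPoly j d)).trans ?_
  exact congrArg (fun v => MvPolynomial.aeval v (_root_.KRR.bottPoly j d)) (funext fun i => hf _ _)

/-- The alternating sum of exterior powers up to a given rank. -/
def lamA (d : ℕ) (x : K) : K := ∑ i ∈ Finset.range (d + 1), (-1 : K) ^ i * LambdaOps.lam i x

theorem map_lamA (f : K →+* L) (hf : ∀ i x, f (LambdaOps.lam i x) = LambdaOps.lam i (f x)) (d : ℕ) (x : K) :
    f (lamA d x) = lamA d (f x) := by
  simp only [lamA, map_sum, map_mul, map_pow, map_neg, map_one, hf]

theorem lamSeries_sum_thin {s : Multiset K} (hs : ∀ u ∈ s, Thin u) :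
    lamSeries s.sum = (s.map fun u => 1 + PowerSeries.C u * PowerSeries.X).prod := by
  rw [lamSeries_multiset_sum]
  exact congrArg Multiset.prod (Multiset.map_congr rfl fun u hu => lamSeries_of_thin (hs u hu))

theorem lam_sum_thin {s : Multiset K} (hs : ∀ u ∈ s, Thin u) (i : ℕ) : LambdaOps.lam i s.sum = s.esymm i := by
  rw [← coeff_lamSeries, lamSeries_sum_thin hs, coeff_prod_one_add]

/-- `λ_{-1}` of a sum of thin elements. -/
theorem lamA_sum_thin {s : Multiset K} (hs : ∀ u ∈ s, Thin u) :
    lamA (Multiset.card s) s.sum = (s.map fun u => 1 - u).prod := by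
  rw [lamA, ← alt_esymm]
  exact Finset.sum_congr rfl fun i _ => by rw [lam_sum_thin hs]

theorem theta_sum_thin {s : Multiset K} (hs : ∀ u ∈ s, Thin u) (j : ℕ) :
    theta j (Multiset.card s) s.sum = (s.map fun u => ∑ k ∈ Finset.range j, u ^ k).prod := by
  have aux : ∀ (m : ℕ) (_ : Multiset.card s = m),
      theta j m s.sum = (s.map fun u => ∑ k ∈ Finset.range j, u ^ k).prod := by
    intro m hm'
    obtain ⟨v, hv⟩ : ∃ v : Fin m → K, Multiset.map v Finset.univ.val = s := by
      subst hm'
      exact ⟨fun i => s.toList.get (i.cast (Multiset.length_toList s).symm), by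
        rw [Fin.univ_val_map]; simp only [List.get_eq_getElem, Fin.val_cast]
        conv_rhs => rw [← Multiset.coe_toList s]
        exact congrArg _ (List.ext_getElem (by simp) (by simp))⟩
    have e1 : theta j m s.sum = MvPolynomial.aeval v (MvPolynomial.aeval
        (fun i : Fin m => MvPolynomial.esymm (Fin m) ℤ (i + 1)) (_root_.KRR.bottPoly j m)) := by
      rw [MvPolynomial.comp_aeval_apply]
      refine congrArg (fun g => MvPolynomial.aeval g (_root_.KRR.bottPoly j m)) (funext fun i => ?_)
      rw [lam_sum_thin hs, MvPolynomial.aeval_esymm_eq_multiset_esymm, hv]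
    rw [e1, ← MvPolynomial.esymmAlgHom_apply]
    have e2 : (MvPolynomial.esymmAlgHom (Fin m) ℤ m (_root_.KRR.bottPoly j m)).val =
        _root_.KRR.bottSym j m :=
      congrArg Subtype.val
        ((MvPolynomial.esymmAlgEquiv (Fin m) ℤ (Fintype.card_fin m)).apply_symm_apply
          ⟨_root_.KRR.bottSym j m, _root_.KRR.bottSym_isSymmetric j m⟩)
    rw [e2, _root_.KRR.bottSym, map_prod, ← hv, Multiset.map_map]
    simp only [map_sum, map_pow, MvPolynomial.aeval_X]
    rfl
  exact aux _ rfl

theorem psi_esymm_thin {P : K → Prop} (h1 : P 1) (hmul : ∀ a b, P a → P b → P (a * b)) (hP : ∀ a, P a → Thin a)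
    {s : Multiset K} (hs : ∀ u ∈ s, P u) (i : ℕ) {j : ℕ} (hj : j ≠ 0) :
    psi j (s.esymm i) = (s.map fun u => u ^ j).esymm i := by
  have h : ∀ t ∈ s.powersetCard i, (psiHom j ∘ Multiset.prod) t =
      (Multiset.prod ∘ Multiset.map fun u => u ^ j) t := by
    intro t ht
    have ht' := (Multiset.mem_powersetCard.1 ht).1
    have hline : Thin t.prod := hP _ (Multiset.prod_induction _ t hmul h1
        fun a ha => hs a (Multiset.mem_of_le ht' ha))
    show psi j t.prod = _
    rw [psi_of_thin hline hj, Function.comp_apply, Multiset.prod_map_pow, Multiset.map_id']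
  change psiHom j (s.esymm i) = _
  rw [Multiset.esymm, map_multiset_sum, Multiset.map_map, Multiset.map_congr rfl h, Multiset.esymm,
    Multiset.powersetCard_map, Multiset.map_map]

/-- The Adams operation of `λ_{-1}` of a sum of lines. -/
theorem psi_lamA_sum {P : K → Prop} (h1 : P 1) (hmul : ∀ a b, P a → P b → P (a * b)) (hP : ∀ a, P a → Thin a)
    {s : Multiset K} (hs : ∀ u ∈ s, P u) {j : ℕ} (hj : j ≠ 0) :
    psi j (lamA (Multiset.card s) s.sum) = lamA (Multiset.card s) s.sum * theta j (Multiset.card s) s.sum := by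
  have hs' : ∀ u ∈ s, Thin u := fun u hu => hP u (hs u hu)
  rw [lamA_sum_thin hs', theta_sum_thin hs', ← Multiset.prod_map_mul]
  have h2 : psi j ((s.map fun u => 1 - u).prod) = (s.map fun u => 1 - u ^ j).prod := by
    rw [← alt_esymm]
    change psiHom j _ = _
    rw [map_sum, show (s.map fun u => 1 - u ^ j) = ((s.map fun u => u ^ j).map fun u => 1 - u) by
      rw [Multiset.map_map]; rfl, ← alt_esymm, Multiset.card_map]
    refine Finset.sum_congr rfl fun i _ => ?_
    have : ∀ x : K, (-1 : K) ^ i * x = ((-1 : ℤ) ^ i) • x := fun x => by simp [zsmul_eq_mul]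
    rw [this, this, map_zsmul]
    exact congrArg _ (psi_esymm_thin h1 hmul hP hs i hj)
  rw [h2]
  exact congrArg Multiset.prod (Multiset.map_congr rfl fun u _ => (mul_neg_geom_sum u j).symm)

end Groth.L12.RR
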