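import Groth.Agent.L12.RR.KOps
import Groth.Agent.L12.RR.KoszulRes
import Groth.Agent.L12.RR.BaseChange
import Groth.Agent.L12.RR.Disjoint
import Groth.Agent.L12.KRes.Tensor
import Groth.Agent.L19.IdealInvertible
import Groth.Agent.L18.IdealModule
import Groth.Agent.L20.ResDescent

/-!
# Push forward and pull back on the rings of bundles
-/

set_option autoImplicit false
set_option maxHeartbeats 800000
set_option linter.style.haveILetI false
set_option linter.unusedSectionVars false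
set_option backward.isDefEq.respectTransparency false
set_option backward.isDefEq.respectTransparency.types false

universe v u

open CategoryTheory CategoryTheory.Limits AlgebraicGeometry TopologicalSpace RingTheory.Sequence

noncomputable section

namespace Groth.L12.RR

open Groth.L12.Kvb (KR toKR)
open Groth.L12.KBunQ (kc kc_iso kc_zero kc_tensor KR_hom_ext exists_pull)
open Groth.L12.KRes (CohPd clPd pushCl)

variable {X Y Z P M : Scheme.{u}}

/-- Pull back of classes. -/
def pull (f : X ⟶ Y) : KR Y →+* KR X := (exists_pull f).choose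

theorem pull_kc (f : X ⟶ Y) {E : Y.Modules} (hE : FlatMod.IsFinLocFree E) :
    pull f (kc Y E) = kc X ((Scheme.Modules.pullback f).obj E) := (exists_pull f).choose_spec E hE

theorem pull_eq (f : X ⟶ Y) {g : KR Y →+* KR X}
    (hg : ∀ E, FlatMod.IsFinLocFree E → g (kc Y E) = kc X ((Scheme.Modules.pullback f).obj E)) (x : KR Y) :
    pull f x = g x :=
  DFunLike.congr_fun (KR_hom_ext (φ := (pull f).toAddMonoidHom) (ψ := g.toAddMonoidHom) fun E hE =>
    (pull_kc f hE).trans (hg E hE).symm) x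

theorem pull_comp (f : X ⟶ Y) (g : Y ⟶ Z) (x : KR Z) : pull (f ≫ g) x = pull f (pull g x) :=
  pull_eq (f ≫ g) (g := (pull f).comp (pull g)) (fun E hE => by
    rw [RingHom.comp_apply, pull_kc g hE, pull_kc f (Groth.L29.LocFree.pullback g hE)]
    exact kc_iso ((Scheme.Modules.pullbackComp f g).app E)
      (Groth.L29.LocFree.pullback f (Groth.L29.LocFree.pullback g hE))) x

theorem pull_id (x : KR X) : pull (𝟙 X) x = x :=
  pull_eq (𝟙 X) (g := RingHom.id _) (fun E hE => by
    rw [RingHom.id_apply]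
    exact kc_iso ((Scheme.Modules.pullbackId X).app E).symm hE) x

theorem pull_section {s : Y ⟶ X} {p : X ⟶ Y} (h : s ≫ p = 𝟙 Y) (y : KR Y) : pull s (pull p y) = y := by
  rw [← pull_comp, h, pull_id]

theorem pull_lam (f : X ⟶ Y) (i : ℕ) (x : KR Y) :
    pull f (LambdaRing.LambdaOps.lam i x) = LambdaRing.LambdaOps.lam i (pull f x) :=
  Groth.L12.KBunQ.lam_pull f (fun _ hE => pull_kc f hE) i x

theorem pull_psi (f : X ⟶ Y) (j : ℕ) (x : KR Y) : pull f (psi j x) = psi j (pull f x) :=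
  map_psi _ (pull_lam f) j x

theorem pull_theta (f : X ⟶ Y) (j d : ℕ) (x : KR Y) : pull f (theta j d x) = theta j d (pull f x) :=
  map_theta _ (pull_lam f) j d x

/-- The class of a coherent module of finite projective dimension. -/
def pd [IsNoetherian Y] (hYe : _root_.KRR.HasEnoughLocFree Y) (A : Y.Modules) : KR Y := toKR Y (clPd hYe A)

theorem pd_shortExact [IsNoetherian Y] (hYe : _root_.KRR.HasEnoughLocFree Y) {S : ShortComplex Y.Modules}
    (hS : S.ShortExact) (h₁ : CohPd S.X₁) (h₂ : CohPd S.X₂) (h₃ : CohPd S.X₃) :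
    pd hYe S.X₂ = pd hYe S.X₁ + pd hYe S.X₃ :=
  (congrArg (toKR Y) (Groth.L12.KRes.clPd_shortExact hYe hS h₁ h₂ h₃)).trans (map_add _ _ _)

theorem pd_vb [IsNoetherian Y] (hYe : _root_.KRR.HasEnoughLocFree Y) {E : Y.Modules} (hE : FlatMod.IsFinLocFree E) :
    pd hYe E = kc Y E := congrArg (toKR Y) (Groth.L12.KRes.clPd_vb hYe hE)

theorem cohPd_vb [IsNoetherian Y] {E : Y.Modules} (hE : FlatMod.IsFinLocFree E) : CohPd E :=
  ⟨(Groth.L12.KRes.vb_iff.1 hE).1, 0, (Groth.L12.KRes.vb_iff.1 hE).2⟩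

section Push

variable (f : X ⟶ Y) [IsNoetherian X] [IsNoetherian Y] (hf : Mor2.IsRegularClosedImmersion f)
  (hYe : _root_.KRR.HasEnoughLocFree Y)

/-- Push forward of classes along a regular closed immersion. -/
def pushK : KR X →+ KR Y :=
  { toFun := fun x => toKR Y (pushCl f hf hYe x)
    map_zero' := (congrArg (toKR Y) (map_zero (pushCl f hf hYe))).trans (map_zero _)
    map_add' := fun a b => (congrArg (toKR Y) (map_add (pushCl f hf hYe) a b)).trans (map_add _ _ _) }

theorem pushK_kc {F : X.Modules} (hF : FlatMod.IsFinLocFree F) :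
    pushK f hf hYe (kc X F) = pd hYe ((Scheme.Modules.pushforward f).obj F) :=
  congrArg (toKR Y) (Groth.L12.KRes.pushCl_cl f hf hYe hF)

theorem pushK_one : pushK f hf hYe 1 = pd hYe ((Scheme.Modules.pushforward f).obj (Coh.structureModule X)) :=
  pushK_kc f hf hYe Groth.L12.Kvb.isFinLocFree_O

theorem pd_tensor {E : Y.Modules} (hE : FlatMod.IsFinLocFree E) {A : Y.Modules} (hA : CohPd A) :
    pd hYe (CohB1.tensorMod E A) = kc Y E * pd hYe A := by
  let T : KZero.K0sub (fun M : Y.Modules => CohPd M) →+ KR Y :=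
    Groth.L29.KSub.lift (fun M => pd hYe (CohB1.tensorMod E M)) fun S hS h₁ h₂ h₃ =>
      pd_shortExact hYe (Groth.L16.FrameIso.shortExact_tensor_left (Groth.L12.KRes.isFlat_vb hE) _ hS)
        (Groth.L12.KRes.cohPd_tensor' hYe hE h₁) (Groth.L12.KRes.cohPd_tensor' hYe hE h₂)
        (Groth.L12.KRes.cohPd_tensor' hYe hE h₃)
  let e := AddEquiv.ofBijective (Groth.L12.KRes.toPd hYe) (Groth.L12.KRes.bijective_toPd hYe)
  have hTB : T.comp (Groth.L12.KRes.toPd hYe) = (AddMonoidHom.mulLeft (kc Y E)).comp (toKR Y) :=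
    Groth.L29.KSub.hom_ext fun F hF => by
      show T (Groth.L12.KRes.toPd hYe (_root_.KRR.cl Y F)) = kc Y E * kc Y F
      rw [Groth.L12.KRes.toPd_cl hYe hF, ← kc_tensor hE hF,
        ← pd_vb hYe (Groth.L29.DC.isFinLocFree_tensor hE hF)]
      exact Groth.L29.KSub.lift_clSub _ _ (cohPd_vb hF)
  obtain ⟨a, ha⟩ := (Groth.L12.KRes.bijective_toPd hYe).2 (KZero.clSub (fun M : Y.Modules => CohPd M) A)
  have h := DFunLike.congr_fun hTB a
  rw [AddMonoidHom.comp_apply, ha] at h
  have hA' : (Groth.L12.KRes.clPd hYe A) = a := (Groth.L12.KRes.bijective_toPd hYe).1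
    ((Groth.L12.KRes.toPd_clPd hYe A).trans ha.symm)
  refine ((Groth.L29.KSub.lift_clSub _ _ hA).symm.trans h).trans ?_
  show kc Y E * toKR Y a = kc Y E * toKR Y (Groth.L12.KRes.clPd hYe A)
  rw [hA']

/-- The projection formula. -/
theorem pushK_mul_pull (x : KR X) (y : KR Y) : pushK f hf hYe (x * pull f y) = pushK f hf hYe x * y := by
  haveI := hf.1
  suffices H : (pushK f hf hYe).comp ((AddMonoidHom.mulLeft x).comp (pull f).toAddMonoidHom) =
      AddMonoidHom.mulLeft (pushK f hf hYe x) from DFunLike.congr_fun H y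
  refine KR_hom_ext fun E hE => ?_
  show pushK f hf hYe (x * pull f (kc Y E)) = pushK f hf hYe x * kc Y E
  rw [pull_kc f hE]
  suffices H : (pushK f hf hYe).comp (AddMonoidHom.mulRight (kc X ((Scheme.Modules.pullback f).obj E))) =
      (AddMonoidHom.mulRight (kc Y E)).comp (pushK f hf hYe) from DFunLike.congr_fun H x
  refine KR_hom_ext fun F hF => ?_
  show pushK f hf hYe (kc X F * kc X ((Scheme.Modules.pullback f).obj E)) = pushK f hf hYe (kc X F) * kc Y E
  have hpE := Groth.L29.LocFree.pullback f hE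
  have hFE := Groth.L29.DC.isFinLocFree_tensor hF hpE
  have hpush := Groth.L12.KRes.cohPd_push f hf hYe hF
  let w : (Scheme.Modules.pushforward f).obj (CohB1.tensorMod F ((Scheme.Modules.pullback f).obj E)) ≅
      CohB1.tensorMod E ((Scheme.Modules.pushforward f).obj F) :=
    (Scheme.Modules.pushforward f).mapIso (Groth.L00.Tensor.tensorComm _ _) ≪≫
      ((Groth.L17.ClosedPush.thetaIso f F).app E).symm
  rw [← kc_tensor hF hpE, pushK_kc f hf hYe hF, mul_comm, ← pd_tensor hYe hE hpush]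
  refine (pushK_kc f hf hYe hFE).trans ?_
  exact congrArg (toKR Y) (Groth.L12.KRes.clPd_iso hYe w (Groth.L12.KRes.cohPd_push f hf hYe hFE))

theorem pushK_pull (y : KR Y) : pushK f hf hYe (pull f y) = pushK f hf hYe 1 * y := by
  rw [← pushK_mul_pull f hf hYe, one_mul]

end Push

/-- A resolution computes the class. -/
theorem pd_isLFRes [IsNoetherian Y] (hYe : _root_.KRR.HasEnoughLocFree Y) {A : Y.Modules} {n : ℕ}
    {L : ChainComplex Y.Modules ℕ} {π : L ⟶ (ChainComplex.single₀ Y.Modules).obj A} (h : _root_.KRR.IsLFRes A n L π) :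
    pd hYe A = ∑ k ∈ Finset.range (n + 1), (-1 : ℤ) ^ k • kc Y (L.X k) := by
  rw [pd, Groth.L12.KRes.clPd_isLFRes hYe h, map_sum]
  exact Finset.sum_congr rfl fun k _ => map_zsmul _ _ _

/-- Base change. -/
theorem pull_pushK {F : P ⟶ M} {φ : Y ⟶ M} {f : X ⟶ Y} {ψ : X ⟶ P} [IsNoetherian X] [IsNoetherian P]
    [IsNoetherian Y] [IsNoetherian M] (hsq : IsPullback f ψ φ F) (hF : Mor2.IsRegularClosedImmersion F)
    (hf : Mor2.IsRegularClosedImmersion f) {d : ℕ} (hcF : FlatMod.IsFinLocFreeOfRank d (Omega.conormal F))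
    (hcf : FlatMod.IsFinLocFreeOfRank d (Omega.conormal f)) (hMe : _root_.KRR.HasEnoughLocFree M)
    (hYe : _root_.KRR.HasEnoughLocFree Y) (p : KR P) :
    pull φ (pushK F hF hMe p) = pushK f hf hYe (pull ψ p) := by
  haveI := hF.1
  suffices H : (pull φ).toAddMonoidHom.comp (pushK F hF hMe) = (pushK f hf hYe).comp (pull ψ).toAddMonoidHom from
    DFunLike.congr_fun H p
  refine KR_hom_ext fun A hA => ?_
  show pull φ (pushK F hF hMe (kc P A)) = pushK f hf hYe (pull ψ (kc P A))
  obtain ⟨n, L, π, hL⟩ := Groth.L12.KRes.hasLFRes_of_cohPd hMe (Groth.L12.KRes.cohPd_push F hF hMe hA)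
  rw [pushK_kc F hF hMe hA, pull_kc ψ hA, pushK_kc f hf hYe (Groth.L29.LocFree.pullback ψ hA),
    pd_isLFRes hMe hL, map_sum]
  unfold pd
  rw [clPd_push_pull hsq hF hf hcF hcf hYe hA hL, map_sum]
  refine Finset.sum_congr rfl fun k _ => ?_
  rw [map_zsmul, map_zsmul, pull_kc φ (hL.finLocFree k)]

/-- Pull back of a push forward away from the image. -/
theorem pull_pushK_eq_zero {F : P ⟶ M} [IsNoetherian P] [IsNoetherian M] (hF : Mor2.IsRegularClosedImmersion F)
    (hMe : _root_.KRR.HasEnoughLocFree M) (k : Z ⟶ M) (hk : ∀ z, k z ∉ Set.range F) (p : KR P) :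
    pull k (pushK F hF hMe p) = 0 := by
  haveI := hF.1
  let U : M.Opens := ⟨(Set.range F)ᶜ, F.isClosedEmbedding.isClosed_range.isOpen_compl⟩
  have hsub : Set.range k ⊆ (U : Set M) := by rintro _ ⟨z, rfl⟩; exact hk z
  let k' : Z ⟶ U.toScheme := IsOpenImmersion.lift U.ι k (by rw [Scheme.Opens.range_ι]; exact hsub)
  have hk' : k' ≫ U.ι = k := IsOpenImmersion.lift_fac _ _ _
  suffices H : (pull k).toAddMonoidHom.comp (pushK F hF hMe) = 0 from DFunLike.congr_fun H p
  refine KR_hom_ext fun A hA => ?_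
  show pull k (pushK F hF hMe (kc P A)) = 0
  obtain ⟨n, L, π, hL⟩ := Groth.L12.KRes.hasLFRes_of_cohPd hMe (Groth.L12.KRes.cohPd_push F hF hMe hA)
  have hA0 : IsZero ((Scheme.Modules.restrictFunctor U.ι).obj ((Scheme.Modules.pushforward F).obj A)) :=
    Groth.L16.Exist.isZero_restrict_push F U.ι A fun x _ hx => by
      rw [Scheme.Opens.range_ι] at hx
      exact hx ⟨x, rfl⟩
  have h := sum_kc_pullback_eq_zero hL U hA0 k'
  rw [hk'] at h
  rw [pushK_kc F hF hMe hA, pd_isLFRes hMe hL, map_sum]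
  refine Eq.trans (Finset.sum_congr rfl fun i _ => ?_) h
  rw [map_zsmul, pull_kc k (hL.finLocFree i)]

/-- The class of a regular zero scheme. -/
theorem pushK_one_zeroScheme [IsNoetherian X] [IsNoetherian Y] (i : X ⟶ Y) (hi : Mor2.IsRegularClosedImmersion i)
    (hYe : _root_.KRR.HasEnoughLocFree Y) {d : ℕ} (hci : FlatMod.IsFinLocFreeOfRank d (Omega.conormal i))
    {E : Y.Modules} (hE : FlatMod.IsFinLocFreeOfRank d E) (t : E ⟶ Coh.structureModule Y)
    (ht : ∀ U : Y.affineOpens, i.ker.ideal U = Ideal.span {a : Γ(Y, U.1) | ∃ s : Γ(E, U.1), (t.app U.1) s = a}) :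
    pushK i hi hYe 1 = lamA d (kc Y E) := by
  haveI := hi.1
  have hE' := Groth.L18.KRRAmple.isFinLocFree_of_rank hE
  haveI := Groth.L29.DC.PCQCoh.isQCoh_of_isFinLocFree hE'
  obtain ⟨L, π, hL, hp⟩ := exists_resolution i hE ht hi hci
  rw [pushK_one, pd_isLFRes hYe hL, lamA]
  refine Finset.sum_congr rfl fun k _ => ?_
  rw [zsmul_eq_mul, show LambdaRing.LambdaOps.lam k (kc Y E) = kc Y (L.X k) from
    Groth.L12.Kvb.lam_cl hE' (hp k).1]
  push_cast
  rfl

/-- An effective Cartier divisor is regularly immersed. -/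
theorem isRegular_of_effCartier (i : X ⟶ Y) [IsClosedImmersion i] (h : BlowUp.IsEffCartierIdeal i.ker) :
    Mor2.IsRegularClosedImmersion i := by
  refine ⟨inferInstance, fun z => ?_⟩
  obtain ⟨U, hU, a, ha, hker⟩ := h (i z)
  refine ⟨U.1, U.2, hU, [a], ⟨?_, ?_⟩, by rw [Ideal.ofList_singleton]; exact hker⟩
  · rw [isWeaklyRegular_singleton_iff]
    exact fun x y hxy => (mul_cancel_left_mem_nonZeroDivisors ha).1 hxy
  · intro htop
    rw [Ideal.ofList_singleton, smul_eq_mul, Ideal.mul_top] at htop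
    have h1 : (1 : Γ(Y, U.1)) ∈ i.ker.ideal U := hker.ge (htop.le trivial)
    rw [Scheme.Hom.ker_apply, RingHom.mem_ker, map_one] at h1
    haveI : Nonempty ↥(i ⁻¹ᵁ U.1) := ⟨⟨z, hU⟩⟩
    exact one_ne_zero h1

theorem nonempty_kernel_iso (i : X ⟶ Y) [IsClosedImmersion i] :
    Nonempty (kernel (ClSub.unitToPush i) ≅ ClSub.idealMod i.ker) := by
  have h1 : ∀ (U : Y.affineOpens) (s : Γ(Coh.structureModule Y, U.1)),
      (ClSub.unitToPush i).app U.1 s = 0 ↔ (ClSub.toSubscheme i.ker).app U.1 s = 0 := fun U s => by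
    show i.app U.1 s = 0 ↔ i.ker.subschemeι.app U.1 s = 0
    rw [← RingHom.mem_ker, ← RingHom.mem_ker, ← Scheme.Hom.ker_apply, i.ker.ker_subschemeι_app]
  have ha : kernel.ι (ClSub.unitToPush i) ≫ ClSub.toSubscheme i.ker = 0 :=
    Groth.L04.KSh.hom_ext_affine fun U s => (h1 U _).1 (congr($(kernel.condition (ClSub.unitToPush i)).app U.1 s))
  have hb : kernel.ι (ClSub.toSubscheme i.ker) ≫ ClSub.unitToPush i = 0 :=
    Groth.L04.KSh.hom_ext_affine fun U s => (h1 U _).2 (congr($(kernel.condition (ClSub.toSubscheme i.ker)).app U.1 s))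
  exact ⟨⟨kernel.lift _ _ ha, kernel.lift _ _ hb,
    (cancel_mono (kernel.ι (ClSub.unitToPush i))).1 (by simp),
    (cancel_mono (kernel.ι (ClSub.toSubscheme i.ker))).1 (by simp)⟩⟩

/-- The class of an effective Cartier divisor. -/
theorem pushK_one_divisor [IsNoetherian X] [IsNoetherian Y] (i : X ⟶ Y) [IsClosedImmersion i]
    (hi : Mor2.IsRegularClosedImmersion i) (hYe : _root_.KRR.HasEnoughLocFree Y) (h : BlowUp.IsEffCartierIdeal i.ker) :
    pushK i hi hYe 1 = 1 - kc Y (ClSub.idealMod i.ker) := by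
  haveI : Epi (ClSub.unitToPush i) := Groth.L12.VBLift.epi_unitToPush i
  let S := ShortComplex.mk (kernel.ι (ClSub.unitToPush i)) (ClSub.unitToPush i) (kernel.condition _)
  have hS : S.ShortExact := ShortComplex.ShortExact.mk' (ShortComplex.exact_of_f_is_kernel _ (kernelIsKernel _))
    inferInstance inferInstance
  have hI : FlatMod.IsFinLocFree (ClSub.idealMod i.ker) :=
    Groth.L16.Existence.isFinLocFree_of_isInvertible ((Groth.Agent.L19.IdealInvertible.isEffCartier_iff _).2 h)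
  obtain ⟨e⟩ := nonempty_kernel_iso i
  have hK : FlatMod.IsFinLocFree S.X₁ := Groth.L29.LocFree.of_iso e.symm hI
  have hp := Groth.L12.KRes.cohPd_push i hi hYe (Groth.L12.Kvb.isFinLocFree_O (X := X))
  have := pd_shortExact hYe hS (cohPd_vb hK) (cohPd_vb Groth.L12.Kvb.isFinLocFree_O) hp
  rw [pd_vb hYe hK, kc_iso e hK, show pd hYe S.X₂ = kc Y (Coh.structureModule Y) from
    pd_vb hYe Groth.L12.Kvb.isFinLocFree_O, Groth.L12.KBunQ.kc_one] at this
  rw [pushK_one, this, add_sub_cancel_left]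

end Groth.L12.RR
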