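import Groth.Agent.L02.CAlg.Tor.Criteria
import Mathlib.RingTheory.Regular.RegularSequence
import Mathlib.LinearAlgebra.TensorProduct.Quotient

/-!
# Tor vanishing against a quotient by a sequence regular on both sides
-/

set_option autoImplicit false
set_option linter.style.haveILetI false

universe u

open RingTheory.Sequence
open scoped TensorProduct

noncomputable section

namespace Groth.L12.RR

open L02.CAlg.TorV

variable {A : Type u} [CommRing A] {M : Type u} [AddCommGroup M] [Module A M]

/-- `Tor_{>0}(M, A/(l)) = 0` for a sequence weakly regular on `A` and on `M`. -/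
theorem van_quotient_ofList : ∀ (l : List A), IsWeaklyRegular A l → IsWeaklyRegular M l →
    ∀ i, Van A M (A ⧸ Ideal.ofList l) i := by
  intro l
  induction l using List.reverseRecOn with
  | nil =>
    intro _ _ i
    haveI : Module.Flat A (A ⧸ Ideal.ofList ([] : List A)) :=
      Module.Flat.of_linearEquiv (Submodule.quotEquivOfEqBot _ Ideal.ofList_nil)
    exact van_of_flat_right _ i
  | append_singleton l r ih =>
    intro hA hM i
    rw [isWeaklyRegular_append_iff, isWeaklyRegular_singleton_iff] at hA hM
    let I := Ideal.ofList l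
    have hle : I ≤ Ideal.ofList (l ++ [r]) := by rw [Ideal.ofList_append]; exact le_sup_left
    let φ : (A ⧸ I) →ₗ[A] (A ⧸ I) := LinearMap.lsmul A (A ⧸ I) r
    let π : (A ⧸ I) →ₗ[A] (A ⧸ Ideal.ofList (l ++ [r])) := Submodule.factor hle
    have hφ : Function.Injective φ := by
      have h : IsSMulRegular (A ⧸ I) r := by
        have e : (I • ⊤ : Submodule A A) = I := Ideal.mul_top I
        exact ((Submodule.quotEquivOfEq _ _ e).isSMulRegular_congr r).1 hA.2
      exact h
    have hπ : Function.Surjective π := Submodule.factor_surjective hle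
    have hex : Function.Exact φ π := by
      intro q
      obtain ⟨a, rfl⟩ := Submodule.mkQ_surjective I q
      constructor
      · intro h
        have ha : a ∈ Ideal.ofList (l ++ [r]) := (Submodule.Quotient.mk_eq_zero _).1 h
        rw [Ideal.ofList_append, Ideal.ofList_singleton, Submodule.mem_sup] at ha
        obtain ⟨x, hx, y, hy, rfl⟩ := ha
        obtain ⟨c, rfl⟩ := Ideal.mem_span_singleton'.1 hy
        refine ⟨I.mkQ c, (Submodule.Quotient.eq I).2 ?_⟩
        rw [show r • c - (x + c * r) = -x by rw [smul_eq_mul]; ring]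
        exact I.neg_mem hx
      · rintro ⟨c, hc⟩
        obtain ⟨c, rfl⟩ := Submodule.mkQ_surjective I c
        rw [← hc]
        refine (Submodule.Quotient.mk_eq_zero _).2 ?_
        rw [Ideal.ofList_append, Ideal.ofList_singleton]
        exact Ideal.mem_sup_right (Ideal.mul_mem_right _ _ (Ideal.mem_span_singleton_self r))
    have hinj : Function.Injective (φ.lTensor M) := by
      have h : IsSMulRegular (M ⊗[A] (A ⧸ I)) r :=
        ((TensorProduct.tensorQuotEquivQuotSMul M I).isSMulRegular_congr r).2 hM.2
      intro x y hxy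
      refine h ?_
      have e : φ = r • LinearMap.id := rfl
      rw [e, LinearMap.lTensor_smul, LinearMap.lTensor_id] at hxy
      exact hxy
    cases i with
    | zero => exact Van.right_zero hφ hπ hex (ih hA.1 hM.1 0) hinj
    | succ i => exact Van.right hφ hπ hex (ih hA.1 hM.1 (i + 1)) (ih hA.1 hM.1 i)

/-- The same for finite free modules over the quotient. -/
theorem van_free_quotient {l : List A} (hA : IsWeaklyRegular A l) (hM : IsWeaklyRegular M l) {n : ℕ}
    {Q : Type u} [AddCommGroup Q] [Module A Q] (e : (Fin n → A ⧸ Ideal.ofList l) ≃ₗ[A] Q) (i : ℕ) :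
    Van A M Q i :=
  (Van.finsupp (van_quotient_ofList l hA hM i) (ULift.{u} (Fin n))).congr
    (Finsupp.linearEquivFunOnFinite A _ (ULift.{u} (Fin n)) ≪≫ₗ
      LinearEquiv.funCongrLeft A _ Equiv.ulift.symm ≪≫ₗ e)

end Groth.L12.RR
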