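import Groth.Agent.L12.RR.Eigen
import Groth.Agent.L12.RR.KOps
import Groth.Agent.L12.KNil.Ample
import Groth.Agent.L12.Kvb.Rank
import Groth.Agent.L08.Lambda.SplitSpecial
import Mathlib.RingTheory.Polynomial.Vieta
import Mathlib.RingTheory.Localization.BaseChange

/-!
# Weights of the Adams operation on the rational ring of bundles
-/

set_option autoImplicit false
set_option maxHeartbeats 800000
set_option linter.style.haveILetI false
set_option linter.unusedSectionVars false
set_option backward.isDefEq.respectTransparency false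
set_option backward.isDefEq.respectTransparency.types false

universe u

open CategoryTheory CategoryTheory.Limits AlgebraicGeometry TopologicalSpace LambdaRing TensorProduct

noncomputable section

namespace Groth.L12.RR

open Groth.L12.Kvb (KR toKR augHom)
open Groth.L12.KBunQ (kc)
open Groth.L08.Lambda (gammaSeries)

variable {X Y : Scheme.{u}}

/-- The rational ring of bundles. -/
abbrev KQ (X : Scheme.{u}) : Type (u + 1) := ℚ ⊗[ℤ] KR X

/-- The map to the rational ring. -/
def incl : KR X →+* KQ X :=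
  (Algebra.TensorProduct.includeRight (R := ℤ) (A := ℚ) (B := KR X)).toRingHom

theorem incl_apply (x : KR X) : incl x = (1 : ℚ) ⊗ₜ[ℤ] x := rfl

theorem exists_incl (z : KQ X) : ∃ (N : ℕ) (x : KR X), 1 ≤ N ∧ (N : KQ X) * z = incl x := by
  induction z using TensorProduct.induction_on with
  | zero => exact ⟨1, 0, le_rfl, by rw [mul_zero, map_zero]⟩
  | tmul q x =>
    refine ⟨q.den, (q.num : KR X) * x, q.den_pos, ?_⟩
    have h1 : (q.den : KQ X) = (q.den : ℚ) ⊗ₜ[ℤ] (1 : KR X) := by
      rw [← map_natCast (Algebra.TensorProduct.includeLeftRingHom : ℚ →+* KQ X)]; rfl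
    rw [h1, Algebra.TensorProduct.tmul_mul_tmul, one_mul, mul_comm (q.den : ℚ), Rat.mul_den_eq_num,
      incl_apply, ← zsmul_eq_mul, ← TensorProduct.smul_tmul, zsmul_eq_mul, mul_one]
  | add a b ha hb =>
    obtain ⟨N, x, hN, hx⟩ := ha
    obtain ⟨M, y, hM, hy⟩ := hb
    refine ⟨N * M, (M : KR X) * x + (N : KR X) * y, Nat.mul_pos hN hM, ?_⟩
    rw [map_add, map_mul, map_mul, map_natCast, map_natCast, ← hx, ← hy]
    push_cast
    ring

theorem torsion_of_incl_eq_zero {x : KR X} (h : incl x = 0) : ∃ N : ℕ, 1 ≤ N ∧ (N : KR X) * x = 0 := by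
  haveI : IsLocalizedModule (nonZeroDivisors ℤ) (TensorProduct.mk ℤ ℚ (KR X) 1) :=
    (isLocalizedModule_iff_isBaseChange (nonZeroDivisors ℤ) ℚ _).2 (TensorProduct.isBaseChange ℤ (KR X) ℚ)
  obtain ⟨⟨c, hc⟩, hcx⟩ := (IsLocalizedModule.eq_zero_iff (nonZeroDivisors ℤ) (TensorProduct.mk ℤ ℚ (KR X) 1)).1 h
  change c • x = 0 at hcx
  have hc0 : c ≠ 0 := nonZeroDivisors.ne_zero hc
  refine ⟨c.natAbs, Int.natAbs_pos.2 hc0, ?_⟩
  rw [zsmul_eq_mul] at hcx
  rcases Int.natAbs_eq c with e | e <;> rw [e] at hcx <;> simpa using hcx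

variable [CompactSpace X]

/-- The Adams operation `ψ^2`. -/
def psiRing : KR X →+* KR X where
  toFun := psi 2
  map_one' := psi_one_KR two_ne_zero
  map_mul' := psi_mul two_ne_zero
  map_zero' := psi_zero 2
  map_add' := (psiHom 2).map_add

/-- `ψ^2` on the rational ring. -/
def psiQ : KQ X →+* KQ X :=
  (Algebra.TensorProduct.map (AlgHom.id ℤ ℚ) (psiRing (X := X)).toIntAlgHom).toRingHom

theorem psiQ_incl (x : KR X) : psiQ (incl x) = incl (psi 2 x) := rfl

/-- Extension of an additive map to the rational rings. -/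
def mapQ (h : KR X →+ KR Y) : KQ X →ₗ[ℚ] KQ Y :=
  TensorProduct.AlgebraTensorModule.map LinearMap.id h.toIntLinearMap

theorem mapQ_incl (h : KR X →+ KR Y) (x : KR X) : mapQ h (incl x) = incl (h x) := rfl

theorem mapQ_natCast_mul (h : KR X →+ KR Y) (N : ℕ) (z : KQ X) : mapQ h ((N : KQ X) * z) = (N : KQ Y) * mapQ h z := by
  rw [← nsmul_eq_mul, map_nsmul, nsmul_eq_mul]

open Eigen (W Wt mem_Wt)

/-- A split injection is injective on rational rings and preserves weights. -/
theorem mem_W_of_split {X' : Scheme.{u}} [CompactSpace X'] {g : KR X →+* KR X'} (hg : Groth.L12.KBunQ.Split X X' g)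
    {n : ℕ} {x : KR X} (h : incl (g x) ∈ W (psiQ (X := X')) 2 n) : incl x ∈ W (psiQ (X := X)) 2 n := by
  let G : KQ X →+* KQ X' := (Algebra.TensorProduct.map (AlgHom.id ℤ ℚ) g.toIntAlgHom).toRingHom
  have hG : Function.Injective G :=
    Module.Flat.lTensor_preserves_injective_linearMap (M := ℚ) g.toIntAlgHom.toLinearMap hg.inj
  refine Eigen.mem_W_of_injective le_rfl G hG (fun z => ?_) (x := incl x) h
  induction z using TensorProduct.induction_on with
  | zero => simp
  | tmul q y =>
    show q ⊗ₜ[ℤ] g (psi 2 y) = q ⊗ₜ[ℤ] psi 2 (g y)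
    rw [map_psi g hg.lam]
  | add a b ha hb => simp only [map_add, ha, hb]

variable [ConnectedSpace ↥X]

theorem lam_kc {E : X.Modules} {r : ℕ} (hE : FlatMod.IsFinLocFreeOfRank r E) (k : ℕ) :
    augHom (LambdaOps.lam k (kc X E)) = (r.choose k : ℤ) := by
  have hE' := Groth.L18.KRRAmple.isFinLocFree_of_rank hE
  haveI := Groth.L29.DC.PCQCoh.isQCoh_of_isFinLocFree hE'
  show augHom (LambdaOps.lam k (toKR X (_root_.KRR.cl X E))) = _
  rw [Groth.L12.Kvb.lam_cl hE' (Groth.L12.ExtSh.isExtPow_wedgeMod E k)]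
  exact Groth.L12.Kvb.augHom_cl
    (Groth.L12.ExtSh.isFinLocFreeOfRank_of_isExtPow hE (Groth.L12.ExtSh.isExtPow_wedgeMod E k))

variable {L : X.Modules} (hL : CohB1.IsAmple L)

include hL in
theorem isNilpotent_aug_zero {x : KR X} (h : augHom x = 0) : IsNilpotent x :=
  Groth.L12.KNil.isNilpotent_of_aug_eq_zero (Groth.L12.Kvb.isModel (X := X)) hL h

include hL in
/-- The lines splitting a bundle are unipotent. -/
theorem isNilpotent_line_sub_one {X' : Scheme.{u}} {g : KR X →+* KR X'} (hg : Groth.L12.KBunQ.Split X X' g)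
    {E : X.Modules} {r : ℕ} (hE : FlatMod.IsFinLocFreeOfRank r E) {s : Multiset (KR X')}
    (hs : ∀ v ∈ s, Groth.L12.KBunQ.Line v) (hcard : Multiset.card s = r) (hsum : g (kc X E) = s.sum)
    {v : KR X'} (hv : v ∈ s) : IsNilpotent (v - 1) := by
  let π := Ideal.Quotient.mk (nilradical (KR X'))
  have he : ∀ k, π (s.esymm k) = (r.choose k : KR X' ⧸ nilradical (KR X')) := fun k => by
    rw [← lam_sum_thin (fun a ha => thin_of_line (hs a ha)), ← hsum, ← hg.lam, ← map_natCast π]
    refine Ideal.Quotient.eq.2 ?_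
    rw [← map_natCast g, ← map_sub, mem_nilradical]
    refine (isNilpotent_aug_zero hL ?_).map g
    rw [map_sub, lam_kc hE, map_natCast, sub_self]
  have h1 : ∀ x : KR X', π ((s.map fun a => x + a).prod) = (π x + 1) ^ r := fun x => by
    have h := congrArg (Polynomial.eval x) (Multiset.prod_X_add_C_eq_sum_esymm s)
    rw [Polynomial.eval_multiset_prod, Multiset.map_map, Polynomial.eval_finsetSum] at h
    simp only [Function.comp_def, Polynomial.eval_add, Polynomial.eval_X, Polynomial.eval_C, Polynomial.eval_mul,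
      Polynomial.eval_pow] at h
    rw [h, map_sum, add_comm (π x), add_pow, hcard]
    refine Finset.sum_congr rfl fun k _ => ?_
    rw [map_mul, map_pow, he, one_pow, one_mul, mul_comm]
  have h2 := h1 (-v)
  rw [show (s.map fun a => -v + a).prod = 0 from Multiset.prod_eq_zero (Multiset.mem_map.2 ⟨v, hv, by ring⟩),
    map_zero] at h2
  have h3 : π (-(v - 1)) ^ r = 0 := by rw [h2, map_neg, map_sub, map_one, map_neg]; ring
  rw [← map_pow, Ideal.Quotient.eq_zero_iff_mem, mem_nilradical] at h3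
  exact isNilpotent_neg_iff.1 (IsNilpotent.of_pow h3)

end Groth.L12.RR
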